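import Groth.Agent.Len90.Basic
import Mathlib.LinearAlgebra.Matrix.Transvection
import Mathlib.RingTheory.Localization.Integer
import Mathlib.RingTheory.Localization.FractionRing

/-! Length of a cokernel equals the order of the determinant: one-dimensional domains. -/

universe u

namespace Groth.Agent.Len90

open Matrix

variable {B : Type u} [CommRing B] [IsDomain B] [IsNoetherianRing B] [Ring.KrullDimLE 1 B]

lemma ord_ne_top {b : B} (hb : b ≠ 0) : Ring.ord B b ≠ ⊤ :=
  Module.length_ne_top_iff.mpr
    (isFiniteLength_quotient_span_singleton B (mem_nonZeroDivisors_of_ne_zero hb))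

variable {n : Type} [Fintype n] [DecidableEq n]

omit [IsNoetherianRing B] [Ring.KrullDimLE 1 B] in
lemma coker_smul (c : B) (hc : c ≠ 0) (G : Matrix n n B) :
    coker (toLin' (c • G)) = coker (toLin' G) + Fintype.card n • Ring.ord B c := by
  have h : c • G = diagonal (fun _ : n => c) * G := by rw [smul_eq_diagonal_mul]
  rw [h, toLin'_mul, coker_comp, coker_diagonal]
  · simp
  · exact injective_toLin' _ (mem_nonZeroDivisors_of_ne_zero (by simp [hc]))

omit [IsNoetherianRing B] [Ring.KrullDimLE 1 B] in
lemma ord_det_smul (c : B) (hc : c ≠ 0) (G : Matrix n n B) :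
    Ring.ord B (c • G).det = Ring.ord B G.det + Fintype.card n • Ring.ord B c := by
  rw [det_smul, Ring.ord_mul' B (mem_nonZeroDivisors_of_ne_zero (pow_ne_zero _ hc)),
    Ring.ord_pow (mem_nonZeroDivisors_of_ne_zero hc), add_comm]

lemma coker_scalar_add_single (a c : B) (ha : a ≠ 0) (i j : n) (hij : i ≠ j) :
    coker (toLin' (a • (1 : Matrix n n B) + Matrix.single i j c)) = Fintype.card n • Ring.ord B a := by
  set G := a • (1 : Matrix n n B) + Matrix.single i j c with hG
  set G' := a • (1 : Matrix n n B) + Matrix.single i j (-c) with hG'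
  let D : Matrix n n B := diagonal fun k => if k = i then -1 else 1
  have hDD : D * D = 1 := by
    rw [diagonal_mul_diagonal, ← diagonal_one]
    congr 1; funext k; split_ifs <;> simp
  have hconj : D * G * D = G' := by
    ext k l
    rw [mul_diagonal, diagonal_mul, hG, hG']
    simp only [Matrix.add_apply, Matrix.smul_apply, smul_eq_mul, Matrix.one_apply, Matrix.single_apply]
    by_cases hkl : k = l
    · subst hkl
      have : ¬(i = k ∧ j = k) := fun h => hij (h.1.trans h.2.symm)
      rw [if_neg this, if_neg this]
      split_ifs <;> ring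
    · by_cases h : i = k ∧ j = l
      · obtain ⟨rfl, rfl⟩ := h
        rw [if_neg hkl, if_pos rfl, if_neg (Ne.symm hij), if_pos ⟨rfl, rfl⟩, if_pos ⟨rfl, rfl⟩]
        ring
      · rw [if_neg hkl, if_neg h, if_neg h]
        split_ifs <;> ring
  have hmul : G * G' = (a * a) • (1 : Matrix n n B) := by
    rw [hG, hG', Matrix.add_mul, Matrix.mul_add, Matrix.mul_add]
    have hs : Matrix.single i j c * Matrix.single i j (-c) = 0 := by
      ext k l
      rw [Matrix.mul_apply, Matrix.zero_apply]
      refine Finset.sum_eq_zero fun m _ => ?_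
      simp only [Matrix.single_apply]
      split_ifs with h1 h2 <;> simp
      exact absurd (h2.1.trans h1.2.symm) hij
    simp [smul_smul, hs, add_assoc]
    rw [← Matrix.single_add, neg_add_cancel, Matrix.single_zero]
  have hne : G.det * G'.det ≠ 0 := by
    rw [← det_mul, hmul]; simp [ha]
  have hiG := injective_toLin' G (mem_nonZeroDivisors_of_ne_zero (left_ne_zero_of_mul hne))
  have e : coker (toLin' G') = coker (toLin' G) := by
    let e : (n → B) ≃ₗ[B] (n → B) := LinearEquiv.ofLinearMap (toLin' D) (toLin' D)
      (by rw [← toLin'_mul, hDD, toLin'_one]) (by rw [← toLin'_mul, hDD, toLin'_one])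
    rw [← coker_equiv_conj e (toLin' G) hiG, ← hconj, toLin'_mul, toLin'_mul, LinearMap.comp_assoc]
    rfl
  have h2 : coker (toLin' (G * G')) = coker (toLin' G) + coker (toLin' G) := by
    rw [toLin'_mul, coker_comp hiG, e]
  rw [hmul, coker_smul _ (mul_ne_zero ha ha), toLin'_one,
    coker_of_surjective (fun x => ⟨x, rfl⟩), zero_add,
    Ring.ord_mul B (mem_nonZeroDivisors_of_ne_zero ha), nsmul_add] at h2
  have hfin : Fintype.card n • Ring.ord B a ≠ ⊤ := by
    rw [nsmul_eq_mul]
    exact WithTop.mul_ne_top (ENat.natCast_ne_top _) (ord_ne_top ha)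
  generalize coker (toLin' G) = L at h2 ⊢
  generalize hm : Fintype.card n • Ring.ord B a = m at h2 hfin ⊢
  obtain ⟨m', rfl⟩ := ENat.ne_top_iff_exists.mp hfin
  induction L using ENat.recTopCoe with
  | top => simp at h2
  | coe L =>
    norm_cast at h2 ⊢
    omega

omit [IsDomain B] [IsNoetherianRing B] [Ring.KrullDimLE 1 B] in
lemma det_scalar_add_single (a c : B) (i j : n) (hij : i ≠ j) (K : Type u) [Field K] [Algebra B K]
    [IsFractionRing B K] (ha : a ≠ 0) :
    (a • (1 : Matrix n n B) + Matrix.single i j c).det = a ^ Fintype.card n := by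
  have hz : algebraMap B K a ≠ 0 :=
    fun h => ha (IsFractionRing.injective B K (h.trans (map_zero _).symm))
  apply IsFractionRing.injective B K
  rw [RingHom.map_det, map_pow]
  have : (algebraMap B K).mapMatrix (a • (1 : Matrix n n B) + Matrix.single i j c) =
      algebraMap B K a • transvection i j (algebraMap B K c / algebraMap B K a) := by
    ext k l
    simp only [RingHom.mapMatrix_apply, Matrix.map_apply, Matrix.add_apply, Matrix.smul_apply,
      smul_eq_mul, Matrix.one_apply, Matrix.single_apply, transvection, map_add, map_mul, mul_add]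
    congr 1
    · split_ifs <;> simp
    · split_ifs
      · rw [mul_div_cancel₀ _ hz]
      · simp
  rw [this, det_smul, det_transvection_of_ne _ _ hij, mul_one]

/-- Over a one-dimensional Noetherian domain the length of the cokernel is the order of the
determinant. -/
theorem coker_eq_ord_det (G : Matrix n n B) (hdet : G.det ≠ 0) :
    coker (toLin' G) = Ring.ord B G.det := by
  let K := FractionRing B
  have hinj := IsFractionRing.injective B K
  suffices key : ∀ g : Matrix n n K, g.det ≠ 0 → ∀ (a : B) (G : Matrix n n B), a ≠ 0 →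
      G.map (algebraMap B K) = algebraMap B K a • g → coker (toLin' G) = Ring.ord B G.det by
    refine key (G.map (algebraMap B K)) ?_ 1 G one_ne_zero (by simp)
    rw [show G.map (algebraMap B K) = (algebraMap B K).mapMatrix G from rfl, ← RingHom.map_det]
    exact fun h => hdet (hinj (h.trans (map_zero _).symm))
  intro g hg
  refine diagonal_transvection_induction_of_det_ne_zero
    (fun g => ∀ (a : B) (G : Matrix n n B), a ≠ 0 →
      G.map (algebraMap B K) = algebraMap B K a • g → coker (toLin' G) = Ring.ord B G.det)
    g hg ?_ ?_ ?_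
  · intro D hD a G ha hG
    have hdiag : G = diagonal fun i => G i i := by
      ext k l
      by_cases h : k = l
      · subst h; simp
      · rw [diagonal_apply_ne _ h]
        apply hinj
        have := congrFun (congrFun hG k) l
        simpa [h] using this
    rw [hdiag, det_diagonal, coker_diagonal, ord_prod]
    intro i _
    refine mem_nonZeroDivisors_of_ne_zero fun h => ?_
    have := congrFun (congrFun hG i) i
    simp only [Matrix.map_apply, h, map_zero, Matrix.smul_apply, diagonal_apply_eq, smul_eq_mul] at this
    rcases mul_eq_zero.mp this.symm with h1 | h1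
    · exact ha (hinj (h1.trans (map_zero _).symm))
    · exact hD (by rw [det_diagonal]; exact Finset.prod_eq_zero (Finset.mem_univ i) h1)
  · rintro ⟨i, j, hij, c⟩ a G ha hG
    rw [TransvectionStruct.toMatrix_mk] at hG
    have hform : G = a • (1 : Matrix n n B) + Matrix.single i j (G i j) := by
      ext k l
      apply hinj
      have h1 := congrFun (congrFun hG k) l
      rw [Matrix.map_apply] at h1
      rw [h1]
      simp only [Matrix.smul_apply, smul_eq_mul, transvection, Matrix.add_apply, Matrix.one_apply,
        Matrix.single_apply, map_add, mul_add]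
      by_cases h : i = k ∧ j = l
      · obtain ⟨rfl, rfl⟩ := h
        have h2 := congrFun (congrFun hG i) j
        simp [transvection, hij] at h2
        simp [hij, h2]
      · simp only [h, if_false, map_zero, mul_zero, add_zero]
        split_ifs <;> simp
    rw [hform, coker_scalar_add_single a _ ha i j hij,
      det_scalar_add_single a _ i j hij K ha, Ring.ord_pow (mem_nonZeroDivisors_of_ne_zero ha)]
  · intro g1 g2 h1 h2 ih1 ih2 a G ha hG
    have clear : ∀ g : Matrix n n K, ∃ (a' : B) (G' : Matrix n n B), a' ≠ 0 ∧
        G'.map (algebraMap B K) = algebraMap B K a' • g := by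
      intro g
      obtain ⟨b, hb⟩ := IsLocalization.exist_integer_multiples_of_finite (nonZeroDivisors B)
        (fun p : n × n => g p.1 p.2)
      choose G' hG' using fun k l => hb (k, l)
      refine ⟨b, Matrix.of G', nonZeroDivisors.coe_ne_zero b, ?_⟩
      ext k l
      simp only [Matrix.map_apply, Matrix.of_apply, Matrix.smul_apply, smul_eq_mul]
      rw [hG', Algebra.smul_def]
    obtain ⟨a1, G1, ha1, hG1⟩ := clear g1
    obtain ⟨a2, G2, ha2, hG2⟩ := clear g2
    have heq : (a1 * a2) • G = a • (G1 * G2) := by
      ext k l
      apply hinj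
      have e1 := congrFun (congrFun hG k) l
      rw [Matrix.map_apply] at e1
      have e2 : ((G1 * G2).map (algebraMap B K)) k l =
          ((algebraMap B K a1 * algebraMap B K a2) • (g1 * g2)) k l := by
        rw [Matrix.map_mul, hG1, hG2, Matrix.smul_mul, Matrix.mul_smul, smul_smul]
      rw [Matrix.map_apply] at e2
      simp only [Matrix.smul_apply, smul_eq_mul, map_mul, e1, e2]
      ring
    have hG1d : G1.det ≠ 0 := fun h => by
      have := congrArg det hG1
      rw [show G1.map (algebraMap B K) = (algebraMap B K).mapMatrix G1 from rfl, ← RingHom.map_det,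
        h, map_zero, det_smul] at this
      rcases mul_eq_zero.mp this.symm with h' | h'
      · exact ha1 (hinj ((eq_zero_of_pow_eq_zero h').trans (map_zero _).symm))
      · exact h1 h'
    have hc : coker (toLin' ((a1 * a2) • G)) = coker (toLin' (a • (G1 * G2))) := by rw [heq]
    have hd : Ring.ord B ((a1 * a2) • G).det = Ring.ord B (a • (G1 * G2)).det := by rw [heq]
    rw [coker_smul _ (mul_ne_zero ha1 ha2), coker_smul _ ha, toLin'_mul,
      coker_comp (injective_toLin' _ (mem_nonZeroDivisors_of_ne_zero hG1d)),
      ih1 a1 G1 ha1 hG1, ih2 a2 G2 ha2 hG2] at hc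
    rw [ord_det_smul _ (mul_ne_zero ha1 ha2), ord_det_smul _ ha, det_mul,
      Ring.ord_mul' B (mem_nonZeroDivisors_of_ne_zero hG1d), add_comm (Ring.ord B G1.det)] at hd
    refine WithTop.add_right_cancel ?_ (hc.trans hd.symm)
    rw [nsmul_eq_mul]
    exact WithTop.mul_ne_top (ENat.natCast_ne_top _) (ord_ne_top (mul_ne_zero ha1 ha2))

end Groth.Agent.Len90
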