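import Mathlib.RingTheory.Length
import Mathlib.RingTheory.OrderOfVanishing.Basic
import Mathlib.LinearAlgebra.Quotient.Pi
import Mathlib.LinearAlgebra.Matrix.ToLin
import Mathlib.LinearAlgebra.Determinant

/-! Lengths of cokernels of endomorphisms. -/

universe u v

namespace Groth.Agent.Len90

open LinearMap

variable {A : Type u} [CommRing A] {V : Type v} [AddCommGroup V] [Module A V]

/-- Length of the cokernel of an endomorphism. -/
noncomputable def coker (f : V →ₗ[A] V) : ℕ∞ := Module.length A (V ⧸ range f)

lemma coker_comp {f g : V →ₗ[A] V} (hf : Function.Injective f) :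
    coker (f ∘ₗ g) = coker g + coker f := by
  refine Module.length_eq_add_of_exact
    (Submodule.mapQ (range g) (range (f ∘ₗ g)) f ?_)
    (Submodule.factor (range_comp_le_range g f)) ?_ (Submodule.factor_surjective _) ?_
  · rintro _ ⟨x, rfl⟩; exact ⟨x, rfl⟩
  · rw [← ker_eq_bot, eq_bot_iff]
    rintro x hx
    obtain ⟨y, rfl⟩ := Submodule.Quotient.mk_surjective _ x
    rw [mem_ker, Submodule.mapQ_apply, Submodule.Quotient.mk_eq_zero] at hx
    obtain ⟨z, hz⟩ := hx
    rw [Submodule.mem_bot, Submodule.Quotient.mk_eq_zero]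
    exact ⟨z, hf hz⟩
  · intro x
    obtain ⟨y, rfl⟩ := Submodule.Quotient.mk_surjective _ x
    simp only [Set.mem_range]
    rw [show Submodule.factor (range_comp_le_range g f) (Submodule.Quotient.mk y) =
      Submodule.Quotient.mk y from rfl, Submodule.Quotient.mk_eq_zero]
    constructor
    · rintro ⟨z, rfl⟩
      exact ⟨Submodule.Quotient.mk z, rfl⟩
    · rintro ⟨z, hz⟩
      obtain ⟨z, rfl⟩ := Submodule.Quotient.mk_surjective _ z
      rw [Submodule.mapQ_apply, Submodule.Quotient.eq] at hz
      have : f z - y ∈ range f := range_comp_le_range g f hz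
      have h2 := (range f).sub_mem (mem_range_self f z) this
      simpa using h2

lemma coker_of_surjective {f : V →ₗ[A] V} (hf : Function.Surjective f) : coker f = 0 := by
  rw [coker, Module.length_eq_zero_iff, Submodule.Quotient.subsingleton_iff, range_eq_top]
  exact hf

lemma coker_equiv_conj (e : V ≃ₗ[A] V) (f : V →ₗ[A] V) (hf : Function.Injective f) :
    coker (e.toLinearMap ∘ₗ f ∘ₗ e.symm.toLinearMap) = coker f := by
  rw [coker_comp e.injective, coker_comp (g := e.symm.toLinearMap) hf,
    coker_of_surjective e.symm.surjective, coker_of_surjective e.surjective, zero_add, add_zero]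

variable {n : Type*} [Fintype n] [DecidableEq n]

lemma coker_diagonal (d : n → A) :
    coker (Matrix.toLin' (Matrix.diagonal d)) = ∑ i, Ring.ord A (d i) := by
  have hrange : range (Matrix.toLin' (Matrix.diagonal d)) =
      Submodule.pi Set.univ fun i => Ideal.span {d i} := by
    ext v
    simp only [mem_range, Submodule.mem_pi, Set.mem_univ, true_implies, Ideal.mem_span_singleton]
    constructor
    · rintro ⟨w, rfl⟩ i
      exact ⟨w i, by simp [Matrix.toLin'_apply, Matrix.mulVec_diagonal]⟩
    · intro h
      choose w hw using h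
      exact ⟨w, funext fun i => by simp [Matrix.toLin'_apply, Matrix.mulVec_diagonal, hw i]⟩
  rw [coker, hrange, (Submodule.quotientPi _).length_eq, Module.length_pi_of_fintype]
  rfl

lemma injective_toLin' (G : Matrix n n A) (h : G.det ∈ nonZeroDivisors A) :
    Function.Injective (Matrix.toLin' G) := by
  rw [injective_iff_map_eq_zero]
  intro v hv
  have h2 : G.adjugate.mulVec (G.mulVec v) = 0 := by
    rw [← Matrix.toLin'_apply G v, hv, Matrix.mulVec_zero]
  rw [Matrix.mulVec_mulVec, Matrix.adjugate_mul, Matrix.smul_mulVec, Matrix.one_mulVec] at h2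
  funext i
  exact mem_nonZeroDivisors_iff_right.mp h _ (by rw [mul_comm]; exact congrFun h2 i)

lemma ord_prod {ι : Type*} (s : Finset ι) (d : ι → A) (h : ∀ i ∈ s, d i ∈ nonZeroDivisors A) :
    Ring.ord A (∏ i ∈ s, d i) = ∑ i ∈ s, Ring.ord A (d i) := by
  classical
  induction s using Finset.induction with
  | empty => simp
  | insert a s ha ih =>
    rw [Finset.prod_insert ha, Finset.sum_insert ha, Ring.ord_mul' A (h a (by simp)),
      ih fun i hi => h i (Finset.mem_insert_of_mem hi)]

end Groth.Agent.Len90
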