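import Groth.Prelude.Def_Tame
import Groth.Agent.Len90.Basic

/-! `CycAlg.ordFrac` on fractions. -/

universe u

namespace Groth.Agent.Len90

variable {A : Type u} [CommRing A] [IsDomain A] [IsNoetherianRing A] [Ring.KrullDimLE 1 A]
variable {K : Type u} [Field K] [Algebra A K] [IsFractionRing A K]

lemma ordFrac_algebraMap (x : A) (hx : x ≠ 0) :
    CycAlg.ordFrac A K (algebraMap A K x) = ((Ring.ord A x).toNat : ℤ) := by
  unfold CycAlg.ordFrac
  rw [dif_pos ⟨inferInstance, inferInstance, inferInstance, inferInstance⟩, Ring.ordFrac_eq_ord A hx,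
    Ring.ordMonoidWithZeroHom_eq_ord (mem_nonZeroDivisors_of_ne_zero hx)]
  have hfin : Ring.ord A x ≠ ⊤ := Module.length_ne_top_iff.mpr
    (isFiniteLength_quotient_span_singleton A (mem_nonZeroDivisors_of_ne_zero hx))
  obtain ⟨m, hm⟩ := ENat.ne_top_iff_exists.mp hfin
  rw [← hm]
  rfl

lemma ordFrac_mul (f g : K) (hf : f ≠ 0) (hg : g ≠ 0) :
    CycAlg.ordFrac A K (f * g) = CycAlg.ordFrac A K f + CycAlg.ordFrac A K g := by
  unfold CycAlg.ordFrac
  simp only [dif_pos (show IsNoetherianRing A ∧ Ring.KrullDimLE 1 A ∧ Nontrivial A ∧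
    IsFractionRing A K from ⟨inferInstance, inferInstance, inferInstance, inferInstance⟩), map_mul]
  have h1 : Ring.ordFrac A f ≠ 0 := by simpa using hf
  have h2 : Ring.ordFrac A g ≠ 0 := by simpa using hg
  obtain ⟨a, ha⟩ := WithZero.ne_zero_iff_exists.mp h1
  obtain ⟨b, hb⟩ := WithZero.ne_zero_iff_exists.mp h2
  rw [← ha, ← hb, ← WithZero.coe_mul]
  rfl

/-- The order of `x / y` is the difference of the orders. -/
lemma ordFrac_of_mul_eq (f : K) (x y : A) (hx : x ≠ 0) (hy : y ≠ 0)
    (h : f * algebraMap A K y = algebraMap A K x) :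
    CycAlg.ordFrac A K f = ((Ring.ord A x).toNat : ℤ) - ((Ring.ord A y).toNat : ℤ) := by
  have hy' : algebraMap A K y ≠ 0 := fun e => hy (IsFractionRing.injective A K (e.trans (map_zero _).symm))
  have hf : f ≠ 0 := fun e => hx (IsFractionRing.injective A K
    (by rw [← h, e, zero_mul, map_zero]))
  have := ordFrac_mul (A := A) f _ hf hy'
  rw [h, ordFrac_algebraMap x hx, ordFrac_algebraMap y hy] at this
  omega

end Groth.Agent.Len90
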