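import Groth.Agent.Len90.Lattice

/-! The distance of a lattice and its image is the order of the determinant. -/

universe u

namespace Groth.Agent.Len90

variable {A : Type u} [CommRing A] [IsDomain A] [IsNoetherianRing A] [Ring.KrullDimLE 1 A]
variable {K : Type u} [Field K] [Algebra A K] [IsFractionRing A K]
variable {V : Type u} [AddCommGroup V] [Module K V] [Module A V] [IsScalarTower A K V]

theorem dist_map_eq_ordFrac_det [FiniteDimensional K V] (M : Submodule A V) [Submodule.IsLattice K M]
    (φ : V ≃ₗ[K] V) :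
    dist M (M.map (φ.toLinearMap.restrictScalars A)) =
      CycAlg.ordFrac A K (LinearMap.det φ.toLinearMap) := by
  let n := Fin (Module.finrank K V)
  let b : Module.Basis n K V := Module.finBasis K V
  let φA : V →ₗ[A] V := φ.toLinearMap.restrictScalars A
  have hφ : Function.Injective φA := φ.injective
  let ι : (n → A) →ₗ[A] V := Fintype.linearCombination A (fun i => b i)
  let F : Submodule A V := LinearMap.range ι
  have hinj := IsFractionRing.injective A K
  have hιinj : Function.Injective ι := by
    rw [injective_iff_map_eq_zero]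
    intro c hc
    have h1 : ∑ i, algebraMap A K (c i) • b i = 0 := by
      simpa [ι, Fintype.linearCombination_apply, algebraMap_smul] using hc
    funext i
    exact hinj ((Fintype.linearIndependent_iff.mp b.linearIndependent _ h1 i).trans (map_zero _).symm)
  have : Submodule.IsLattice K F := by
    refine ⟨?_, ?_⟩
    · exact Submodule.fg_range ι
    · rw [eq_top_iff, ← b.span_eq, Submodule.span_le]
      rintro _ ⟨i, rfl⟩
      exact Submodule.subset_span ⟨Pi.single i 1, by simp [ι]⟩
  have := isLattice_map (A := A) M φ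
  have := isLattice_map (A := A) F φ
  have hMF : dist M (M.map φA) = dist F (F.map φA) := by
    have h3 := dist_map (A := A) hφ F M
    have h4 : dist M F + dist F M = 0 := by
      rw [← dist_add (K := K)]; simp [dist]
    rw [dist_add (K := K) M F (M.map φA), dist_add (K := K) F (F.map φA) (M.map φA), h3]
    omega
  rw [hMF]
  let g := LinearMap.toMatrix b b φ.toLinearMap
  obtain ⟨a, ha⟩ := IsLocalization.exist_integer_multiples_of_finite (nonZeroDivisors A)
    (fun p : n × n => g p.1 p.2)
  choose G' hG' using fun k l => ha (k, l)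
  let G : Matrix n n A := Matrix.of G'
  have ha0 : a.1 ≠ 0 := nonZeroDivisors.coe_ne_zero a
  have hz : algebraMap A K a.1 ≠ 0 := fun e => ha0 (hinj (e.trans (map_zero _).symm))
  have hG : G.map (algebraMap A K) = algebraMap A K a.1 • g := by
    ext k l
    simp only [G, Matrix.map_apply, Matrix.of_apply, Matrix.smul_apply, smul_eq_mul]
    rw [hG', Algebra.smul_def]
  have hdet : algebraMap A K G.det = algebraMap A K (a.1 ^ Fintype.card n) * LinearMap.det φ.toLinearMap := by
    rw [RingHom.map_det, show (algebraMap A K).mapMatrix G = G.map (algebraMap A K) from rfl, hG,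
      Matrix.det_smul, map_pow, LinearMap.det_toMatrix]
  have hdne : LinearMap.det φ.toLinearMap ≠ 0 := (LinearEquiv.isUnit_det' φ).ne_zero
  have hGd : G.det ≠ 0 := fun h => by
    rw [h, map_zero, map_pow] at hdet
    exact mul_ne_zero (pow_ne_zero _ hz) hdne hdet.symm
  -- the comparison map
  have hcomm : ι ∘ₗ Matrix.toLin' G = (a.1 • φA) ∘ₗ ι := by
    apply (Pi.basisFun A n).ext
    intro j
    simp only [LinearMap.comp_apply, Pi.basisFun_apply, Matrix.toLin'_apply, Matrix.mulVec_single_one,
      LinearMap.smul_apply]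
    rw [show ι (Pi.single j 1) = b j by simp [ι], Fintype.linearCombination_apply]
    change ∑ k, G k j • b k = a.1 • φ.toLinearMap (b j)
    conv_rhs => rw [← b.sum_repr (φ.toLinearMap (b j)), Finset.smul_sum]
    refine Finset.sum_congr rfl fun k _ => ?_
    have hk : algebraMap A K (G k j) = algebraMap A K a.1 * g k j := congrFun (congrFun hG k) j
    rw [← algebraMap_smul K (G k j), ← algebraMap_smul K a.1, hk, smul_smul]
    simp [g, LinearMap.toMatrix_apply]
  have hlin : ∀ (H : Matrix n n A) (ψ : V →ₗ[A] V), ι ∘ₗ Matrix.toLin' H = ψ ∘ₗ ι →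
      coker (Matrix.toLin' H) = relLen F (F.map ψ) := by
    intro H ψ h
    have e : F.map ψ = (LinearMap.range (Matrix.toLin' H)).map ι := by
      rw [← LinearMap.range_comp, ← LinearMap.range_comp, h]
    rw [coker, e]
    refine (Submodule.Quotient.equiv _ _ (LinearEquiv.ofInjective ι hιinj) ?_).length_eq
    ext ⟨x, y, rfl⟩
    simp only [Submodule.mem_map, Submodule.submoduleOf, Submodule.mem_comap, Submodule.coe_subtype,
      LinearEquiv.coe_coe]
    constructor
    · rintro ⟨z, hz, hzx⟩
      exact ⟨z, hz, congrArg Subtype.val hzx⟩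
    · rintro ⟨z, hz, hzx⟩
      exact ⟨z, hz, Subtype.ext hzx⟩
  let sA : V →ₗ[A] V := a.1 • LinearMap.id
  have hcomm2 : ι ∘ₗ Matrix.toLin' (Matrix.diagonal fun _ : n => a.1) = sA ∘ₗ ι := by
    refine LinearMap.ext fun x => ?_
    have : Matrix.toLin' (Matrix.diagonal fun _ : n => a.1) x = a.1 • x := by
      funext i; simp [Matrix.mulVec_diagonal]
    simp only [LinearMap.comp_apply, this, map_smul, sA, LinearMap.smul_apply, LinearMap.id_apply]
  have hN : F.map (a.1 • φA) = (F.map sA).map φA := by
    rw [← Submodule.map_comp]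
    congr 1
    refine LinearMap.ext fun x => ?_
    simp [sA]
  have hNle : F.map (a.1 • φA) ≤ F := by
    rw [← LinearMap.range_comp, ← hcomm]
    exact LinearMap.range_comp_le_range _ _
  have hNle' : F.map (a.1 • φA) ≤ F.map φA := by
    rintro _ ⟨x, hx, rfl⟩
    exact ⟨a.1 • x, F.smul_mem _ hx, by simp⟩
  have : Submodule.IsLattice K (F.map (a.1 • φA)) := by
    refine ⟨(Submodule.IsLattice.fg (A := K)).map _, ?_⟩
    rw [eq_top_iff, ← Submodule.IsLattice.span_eq_top (A := K) (M := F.map φA), Submodule.span_le]
    rintro _ ⟨x, hx, rfl⟩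
    have h2 : φA x = (algebraMap A K a.1)⁻¹ • ((a.1 • φA) x) := by
      rw [LinearMap.smul_apply, ← algebraMap_smul K a.1 (φA x), inv_smul_smul₀ hz]
    rw [h2]
    exact Submodule.smul_mem _ _ (Submodule.subset_span ⟨x, hx, rfl⟩)
  rw [dist_eq (K := K) F (F.map φA) (F.map (a.1 • φA)) hNle hNle', ← hlin G _ hcomm, hN,
    relLen_map hφ, ← hlin _ _ hcomm2, coker_eq_ord_det G hGd,
    coker_eq_ord_det _ (by simp [ha0]), Matrix.det_diagonal, Finset.prod_const, Finset.card_univ]
  refine (ordFrac_of_mul_eq (LinearMap.det φ.toLinearMap) G.det _ hGd (pow_ne_zero _ ha0) ?_).symm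
  rw [hdet, mul_comm]

end Groth.Agent.Len90
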