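import Groth.Agent.Len90.Domain
import Mathlib.RingTheory.Localization.Ideal
import Mathlib.RingTheory.Localization.Submodule
import Mathlib.RingTheory.Ideal.KrullsHeightTheorem

/-! Length of a cokernel = order of the determinant for any Noetherian domain. -/

universe u

namespace Groth.Agent.Len90

open Matrix

variable {B : Type u} [CommRing B] [IsDomain B] [IsNoetherianRing B] {n : Type} [Fintype n] [DecidableEq n]

/-- Elements invertible modulo `d`. -/
def unitsMod (d : B) : Submonoid B where
  carrier := {t | ∃ s, d ∣ s * t - 1}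
  one_mem' := ⟨1, by simp⟩
  mul_mem' := by
    rintro t t' ⟨s, hs⟩ ⟨s', hs'⟩
    refine ⟨s * s', ?_⟩
    have : s * s' * (t * t') - 1 = (s * t) * (s' * t' - 1) + (s * t - 1) := by ring
    rw [this]
    exact dvd_add (hs'.mul_left _) hs

omit [IsDomain B] [IsNoetherianRing B] in
/-- Modules over a localization whose scalars act through `B` have the same length over `B`. -/
lemma length_eq_of_smul_agree {B' N : Type u} [CommRing B'] [Algebra B B'] [AddCommGroup N]
    [Module B' N] [Module B N] [IsScalarTower B B' N]
    (h : ∀ r : B', ∃ b : B, ∀ v : N, r • v = b • v) : Module.length B' N = Module.length B N := by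
  let e : Submodule B' N ≃o Submodule B N :=
    { toFun := Submodule.restrictScalars B
      invFun := fun P =>
        { P with
          smul_mem' := fun r v hv => by
            obtain ⟨b, hb⟩ := h r
            rw [hb]
            exact P.smul_mem b hv }
      left_inv := fun P => rfl
      right_inv := fun P => rfl
      map_rel_iff' := Iff.rfl }
  exact WithBot.coe_inj.mp ((Module.coe_length B' N).trans
    ((Order.krullDim_eq_of_orderIso e).trans (Module.coe_length B N).symm))

omit [IsDomain B] [IsNoetherianRing B] in
lemma dvd_mem_range (G : Matrix n n B) (v : n → B) :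
    G.det • v ∈ LinearMap.range (toLin' G) :=
  ⟨G.adjugate.mulVec v, by rw [toLin'_apply, mulVec_mulVec, mul_adjugate, smul_mulVec, one_mulVec]⟩

section Loc

variable (B' : Type u) [CommRing B'] [Algebra B B']

omit [IsDomain B] [IsNoetherianRing B] in
/-- The cokernel does not change on inverting elements invertible modulo the determinant. -/
lemma coker_localization (G : Matrix n n B) [IsLocalization (unitsMod G.det) B'] :
    coker (toLin' (G.map (algebraMap B B'))) = coker (toLin' G) := by
  set G' := G.map (algebraMap B B')
  let j : (n → B) →ₗ[B] (n → B') := LinearMap.compLeft (Algebra.linearMap B B') n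
  let R' := (LinearMap.range (toLin' G')).restrictScalars B
  have hjG : ∀ w, j (toLin' G w) = toLin' G' (j w) := fun w => by
    funext i
    simp [j, G', toLin'_apply, mulVec, dotProduct]
  have hdet : G'.det = algebraMap B B' G.det := (RingHom.map_det _ G).symm
  have hred : ∀ (r : B'), ∃ b : B, ∀ v : n → B', r • v - b • v ∈ R' := by
    intro r
    obtain ⟨w, t, rfl⟩ := IsLocalization.exists_mk'_eq (unitsMod G.det) r
    obtain ⟨s, c, hc⟩ := t.2
    refine ⟨s * w, fun v => ?_⟩
    have : IsLocalization.mk' B' w t - algebraMap B B' (s * w) =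
        G'.det * (-(IsLocalization.mk' B' (w * c) t)) := by
      rw [hdet]
      apply ((IsLocalization.map_units B' t).mul_left_inj).mp
      rw [sub_mul, IsLocalization.mk'_spec, mul_neg, neg_mul, mul_assoc (algebraMap B B' G.det),
        IsLocalization.mk'_spec, ← map_mul, ← map_mul, ← map_neg, ← map_sub]
      congr 1
      linear_combination (-w) * hc
    rw [← algebraMap_smul B' (s * w) v, ← sub_smul, this, mul_smul]
    exact dvd_mem_range G' _

  have hle : LinearMap.range (toLin' G) ≤ R'.comap j := by
    rintro _ ⟨w, rfl⟩; exact ⟨j w, (hjG w).symm⟩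
  have hbij : Function.Bijective (Submodule.mapQ (LinearMap.range (toLin' G)) R' j hle) := by
    constructor
    · rw [← LinearMap.ker_eq_bot, eq_bot_iff]
      intro x hx
      obtain ⟨v, rfl⟩ := Submodule.Quotient.mk_surjective _ x
      obtain ⟨w', hw'⟩ := (Submodule.Quotient.mk_eq_zero _).mp (LinearMap.mem_ker.mp hx)
      obtain ⟨t, ht⟩ := IsLocalization.exist_integer_multiples_of_finite (unitsMod G.det) w'
      choose w hw using ht
      have h2 : j (t.1 • v) = j (toLin' G w) := by
        rw [map_smul, hjG, ← hw', ← LinearMap.map_smul_of_tower]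
        congr 1
        funext i
        exact (hw i).symm
      obtain ⟨s, c, hc⟩ := t.2
      rw [Submodule.mem_bot, Submodule.Quotient.mk_eq_zero]
      have h3 : ∃ u : unitsMod G.det, u.1 • t.1 • v = u.1 • toLin' G w := by
        have hu : ∀ i, ∃ u : unitsMod G.det, u.1 * (t.1 • v) i = u.1 * toLin' G w i := fun i =>
          IsLocalization.exists_of_eq (congrFun h2 i)
        choose u hu using hu
        refine ⟨∏ i, u i, funext fun i => ?_⟩
        simp only [Pi.smul_apply, smul_eq_mul, Submonoid.coe_finsetProd]
        rw [← Finset.prod_erase_mul _ _ (Finset.mem_univ i), mul_assoc, mul_assoc]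
        exact congrArg _ (hu i)
      obtain ⟨u, hu⟩ := h3
      obtain ⟨s', c', hc'⟩ := u.2
      have key : v = (s' * s) • (u.1 • t.1 • v) - (s * t.1 * c' + c) • (G.det • v) := by
        funext i
        simp only [Pi.sub_apply, Pi.smul_apply, smul_eq_mul]
        linear_combination -(v i * hc) - (s * t.1 * v i) * hc'
      rw [key, hu]
      exact Submodule.sub_mem _ (Submodule.smul_mem _ _ (Submodule.smul_mem _ _ ⟨w, rfl⟩))
        (Submodule.smul_mem _ _ (dvd_mem_range G v))
    · intro x
      obtain ⟨v, rfl⟩ := Submodule.Quotient.mk_surjective _ x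
      have hv : ∀ i, ∃ b : B, ∀ y : n → B', v i • y - b • y ∈ R' := fun i => hred (v i)
      choose b hb using hv
      refine ⟨Submodule.Quotient.mk b, ?_⟩
      change Submodule.Quotient.mk (j b) = Submodule.Quotient.mk v
      rw [eq_comm, Submodule.Quotient.eq]
      have : v - j b = ∑ i, (v i • (Pi.single i 1 : n → B') - b i • (Pi.single i 1 : n → B')) := by
        funext k
        simp [j, Finset.sum_apply, Pi.single_apply, Algebra.smul_def]
      rw [this]
      exact Submodule.sum_mem _ fun i _ => hb i _
  rw [coker, coker, length_eq_of_smul_agree (B := B) (B' := B')]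
  · exact ((Submodule.Quotient.restrictScalarsEquiv B (LinearMap.range (toLin' G'))).symm.trans
      (LinearEquiv.ofBijective _ hbij).symm).length_eq
  · intro r
    obtain ⟨b, hb⟩ := hred r
    refine ⟨b, fun v => ?_⟩
    obtain ⟨v, rfl⟩ := Submodule.Quotient.mk_surjective _ v
    rw [← Submodule.Quotient.mk_smul, ← Submodule.Quotient.mk_smul, Submodule.Quotient.eq]
    exact hb v

end Loc

omit [IsDomain B] in
/-- If `B/(d)` has finite length, inverting the elements invertible modulo `d` gives dimension ≤ 1. -/
lemma krullDimLE_unitsMod {d : B} (hfin : Ring.ord B d ≠ ⊤) (B' : Type u) [CommRing B']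
    [Algebra B B'] [IsLocalization (unitsMod d) B'] : Ring.KrullDimLE 1 B' := by
  have hNB : IsNoetherianRing B' := IsLocalization.isNoetherianRing (unitsMod d) B' inferInstance
  have hjac : ∀ m : Ideal B', m.IsMaximal → algebraMap B B' d ∈ m := by
    intro m hm
    by_contra hnot
    obtain ⟨r, hr⟩ := hm.exists_inv hnot
    obtain ⟨hr', hrmem, hrsum⟩ := hr
    obtain ⟨x, t, rfl⟩ := IsLocalization.exists_mk'_eq (unitsMod d) r
    obtain ⟨s, c, hc⟩ := t.2
    have hu : t.1 - x * d ∈ unitsMod d := ⟨s, c - s * x, by linear_combination hc⟩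
    have he : hr' * algebraMap B B' t = algebraMap B B' (t.1 - x * d) := by
      rw [map_sub, map_mul]
      linear_combination (algebraMap B B' t.1) * hrsum - (algebraMap B B' d) * IsLocalization.mk'_spec B' x t
    exact hm.ne_top (Ideal.eq_top_of_isUnit_mem _ (Ideal.mul_mem_right _ _ hrmem)
      (he ▸ IsLocalization.map_units B' ⟨_, hu⟩))
  have hheight : ∀ m : Ideal B', m.IsMaximal → m.height ≤ 1 := by
    intro m hm
    refine Ideal.height_le_one_of_isPrincipal_of_mem_minimalPrimes (Ideal.span {algebraMap B B' d}) m ?_
    refine ⟨⟨hm.isPrime, by simpa [Ideal.span_le] using hjac m hm⟩, fun q hq hle => ?_⟩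
    have : IsArtinian B (B ⧸ Ideal.span {d}) :=
      (isFiniteLength_iff_isNoetherian_isArtinian.mp (Module.length_ne_top_iff.mp hfin)).2
    have : IsArtinianRing (B ⧸ Ideal.span {d}) := isArtinian_of_tower B this
    have hdq : Ideal.span {d} ≤ q.comap (algebraMap B B') := by
      rw [Ideal.span_le, Set.singleton_subset_iff]
      exact hq.2 (Ideal.mem_span_singleton_self _)
    have := hq.1
    have hmax : (q.comap (algebraMap B B')).IsMaximal := by
      have hp : (Ideal.map (Ideal.Quotient.mk (Ideal.span {d})) (q.comap (algebraMap B B'))).IsPrime :=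
        Ideal.map_isPrime_of_surjective Ideal.Quotient.mk_surjective (by rwa [Ideal.mk_ker])
      have := IsArtinianRing.isMaximal_of_isPrime
        (Ideal.map (Ideal.Quotient.mk (Ideal.span {d})) (q.comap (algebraMap B B')))
      have h2 := Ideal.comap_isMaximal_of_surjective (Ideal.Quotient.mk (Ideal.span {d}))
        Ideal.Quotient.mk_surjective (K := Ideal.map (Ideal.Quotient.mk (Ideal.span {d}))
          (q.comap (algebraMap B B')))
      rwa [Ideal.comap_map_of_surjective _ Ideal.Quotient.mk_surjective, ← RingHom.ker_eq_comap_bot,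
        Ideal.mk_ker, sup_eq_left.mpr hdq] at h2
    have heq := hmax.eq_of_le (hm.isPrime.comap (algebraMap B B')).ne_top (Ideal.comap_mono hle)
    rw [← IsLocalization.map_under (unitsMod d) B' m, ← IsLocalization.map_under (unitsMod d) B' q,
      Ideal.under_def, Ideal.under_def, heq]
  rw [Ring.KrullDimLE, Order.krullDimLE_iff]
  refine le_trans ((ringKrullDim_le_iff_isMaximal_height_le 1).mpr fun m hm => ?_) le_rfl
  exact_mod_cast hheight m hm

/-- For a Noetherian domain and `det G ≠ 0` with `B/(det G)` of finite length. -/
theorem coker_eq_ord_det' (G : Matrix n n B) (hdet : G.det ≠ 0) (hfin : Ring.ord B G.det ≠ ⊤) :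
    coker (toLin' G) = Ring.ord B G.det := by
  let B' := Localization (unitsMod G.det)
  rcases eq_or_ne (0 : B) 1 with h01 | h01
  · exact absurd h01 zero_ne_one
  have hT : unitsMod G.det ≤ nonZeroDivisors B ∨ IsUnit G.det := by
    by_cases hu : IsUnit G.det
    · exact Or.inr hu
    · refine Or.inl fun t ht => mem_nonZeroDivisors_of_ne_zero fun h => hu ?_
      obtain ⟨s, c, hc⟩ := ht
      rw [h, mul_zero, zero_sub] at hc
      exact IsUnit.of_mul_eq_one (-c) (by linear_combination hc)
  rcases hT with hT | hu
  · have : IsDomain B' := IsLocalization.isDomain_localization hT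
    have hNB : IsNoetherianRing B' := IsLocalization.isNoetherianRing (unitsMod G.det) B' inferInstance
    have := krullDimLE_unitsMod hfin B'
    have hd' : (G.map (algebraMap B B')).det ≠ 0 := by
      rw [show G.map (algebraMap B B') = (algebraMap B B').mapMatrix G from rfl, ← RingHom.map_det]
      exact fun h => hdet (IsLocalization.injective B' hT (h.trans (map_zero _).symm))
    rw [← coker_localization B' G, coker_eq_ord_det _ hd',
      show G.map (algebraMap B B') = (algebraMap B B').mapMatrix G from rfl, ← RingHom.map_det]
    have h1 : coker (toLin' (Matrix.diagonal fun _ : Fin 1 => G.det)) = Ring.ord B G.det := by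
      rw [coker_diagonal]; simp
    have hd1 : (Matrix.diagonal fun _ : Fin 1 => G.det).det = G.det := by simp
    have : IsLocalization (unitsMod (Matrix.diagonal fun _ : Fin 1 => G.det).det) B' := by
      rw [hd1]; infer_instance
    rw [← h1, ← coker_localization B' (Matrix.diagonal fun _ : Fin 1 => G.det),
      Matrix.diagonal_map (map_zero _), coker_diagonal]
    simp
  · rw [Ring.ord_of_isUnit hu, coker_of_surjective]
    intro v
    obtain ⟨u, hu'⟩ := hu
    obtain ⟨w, hw⟩ := dvd_mem_range G ((u⁻¹ : Bˣ).1 • v)
    exact ⟨w, by rw [hw, smul_smul, ← hu', Units.mul_inv, one_smul]⟩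

end Groth.Agent.Len90
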