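import Groth.Agent.Len90.Euler
import Groth.Agent.Len90.Semiloc
import Mathlib.RingTheory.Ideal.AssociatedPrime.Finiteness
import Mathlib.RingTheory.Ideal.Quotient.Operations

/-! Length coker - length ker of a matrix on a module equals that of its determinant. -/

universe u

namespace Groth.Agent.Len90

open LinearMap

variable {A : Type u} [CommRing A] {n : Type} [Fintype n] [DecidableEq n]

/-- A matrix acting on tuples of elements of a module. -/
noncomputable def act (G : Matrix n n A) (M : Type u) [AddCommGroup M] [Module A M] :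
    (n → M) →ₗ[A] (n → M) :=
  LinearMap.pi fun i => ∑ j, G i j • LinearMap.proj j

omit [DecidableEq n] in
lemma act_apply (G : Matrix n n A) (M : Type u) [AddCommGroup M] [Module A M] (v : n → M) (i : n) :
    act G M v i = ∑ j, G i j • v j := by simp [act]

omit [DecidableEq n] in
lemma compLeft_act (G : Matrix n n A) {M N : Type u} [AddCommGroup M] [Module A M] [AddCommGroup N]
    [Module A N] (g : M →ₗ[A] N) : act G N ∘ₗ g.compLeft n = g.compLeft n ∘ₗ act G M :=
  LinearMap.ext fun v => funext fun i => by simp [act_apply, map_sum]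

lemma coker_congr {M N : Type u} [AddCommGroup M] [Module A M] [AddCommGroup N] [Module A N]
    (e : M ≃ₗ[A] N) {f : M →ₗ[A] M} {g : N →ₗ[A] N} (h : ∀ x, g (e x) = e (f x)) :
    coker f = coker g ∧ kerLen f = kerLen g := by
  have h1 : g ∘ₗ e.toLinearMap = e.toLinearMap ∘ₗ f := LinearMap.ext h
  constructor
  · refine (Submodule.Quotient.equiv _ _ e ?_).length_eq
    rw [← range_comp]
    change range (e.toLinearMap ∘ₗ f) = range g
    rw [← h1, range_comp, LinearEquiv.range, Submodule.map_top]
  · refine (e.ofSubmodules _ _ ?_).length_eq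
    ext x
    obtain ⟨y, rfl⟩ := e.surjective x
    simp [Submodule.mem_map_equiv, mem_ker, h]

/-- The claim proved by dévissage. -/
def Good (G : Matrix n n A) (M : Type u) [AddCommGroup M] [Module A M] : Prop :=
  coker (lsmul A M G.det) ≠ ⊤ →
    kerLen (lsmul A M G.det) ≠ ⊤ ∧ coker (act G M) ≠ ⊤ ∧ kerLen (act G M) ≠ ⊤ ∧
      coker (act G M) + kerLen (lsmul A M G.det) = kerLen (act G M) + coker (lsmul A M G.det)

lemma good_congr (G : Matrix n n A) {M N : Type u} [AddCommGroup M] [Module A M] [AddCommGroup N]
    [Module A N] (e : M ≃ₗ[A] N) (h : Good G N) : Good G M := by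
  have h1 := coker_congr e (f := lsmul A M G.det) (g := lsmul A N G.det) (fun x => by simp)
  have h2 := coker_congr (LinearEquiv.piCongrRight fun _ : n => e) (f := act G M) (g := act G N)
    (fun v => funext fun i => by simp [act_apply, map_sum])
  unfold Good
  rw [h1.1, h1.2, h2.1, h2.2]
  exact h

lemma good_exact (G : Matrix n n A) {M M' M'' : Type u} [AddCommGroup M] [Module A M] [AddCommGroup M']
    [Module A M'] [AddCommGroup M''] [Module A M''] (i : M' →ₗ[A] M) (p : M →ₗ[A] M'')
    (hi : Function.Injective i) (hp : Function.Surjective p) (hex : Function.Exact i p)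
    (h' : Good G M') (h'' : Good G M'') : Good G M := by
  intro hfin
  obtain ⟨s1, s2, s3, s4, s5, s6⟩ := euler i p hi hp (exact_iff.mp hex).symm (lsmul A M' G.det)
    (lsmul A M G.det) (lsmul A M'' G.det) (LinearMap.ext fun x => by simp)
    (LinearMap.ext fun x => by simp)
  have hex' : range (i.compLeft n) = ker (p.compLeft n) := by
    ext v
    constructor
    · rintro ⟨w, rfl⟩; exact mem_ker.mpr (funext fun j => hex.apply_apply_eq_zero (w j))
    · intro hv
      choose w hw using fun j => (hex (v j)).mp (congrFun (mem_ker.mp hv) j)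
      exact ⟨w, funext hw⟩
  obtain ⟨t1, t2, t3, t4, t5, t6⟩ := euler (i.compLeft n) (p.compLeft n)
    (fun a b h => funext fun j => hi (congrFun h j)) (hp.comp_left) hex' (act G M') (act G M)
    (act G M'') (compLeft_act G i) (compLeft_act G p)
  have fc'' := ne_top_of_le_ne_top hfin s2
  obtain ⟨fk'', gc'', gk'', e''⟩ := h'' fc''
  have fc' := ne_top_of_le_ne_top (WithTop.add_ne_top.mpr ⟨hfin, fk''⟩) s6
  obtain ⟨fk', gc', gk', e'⟩ := h' fc'
  have fk := ne_top_of_le_ne_top (WithTop.add_ne_top.mpr ⟨fk', fk''⟩) s5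
  have gc := ne_top_of_le_ne_top (WithTop.add_ne_top.mpr ⟨gc', gc''⟩) t4
  have gk := ne_top_of_le_ne_top (WithTop.add_ne_top.mpr ⟨gk', gk''⟩) t5
  refine ⟨fk, gc, gk, ?_⟩
  rw [← ENat.natCast_toNat hfin, ← ENat.natCast_toNat fk, ← ENat.natCast_toNat gc,
    ← ENat.natCast_toNat gk]
  rw [← ENat.natCast_toNat hfin, ← ENat.natCast_toNat fk, ← ENat.natCast_toNat fk',
    ← ENat.natCast_toNat fk'', ← ENat.natCast_toNat fc', ← ENat.natCast_toNat fc''] at s1
  rw [← ENat.natCast_toNat gc, ← ENat.natCast_toNat gk, ← ENat.natCast_toNat gk',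
    ← ENat.natCast_toNat gk'', ← ENat.natCast_toNat gc', ← ENat.natCast_toNat gc''] at t1
  rw [← ENat.natCast_toNat gc', ← ENat.natCast_toNat gk', ← ENat.natCast_toNat fc',
    ← ENat.natCast_toNat fk'] at e'
  rw [← ENat.natCast_toNat gc'', ← ENat.natCast_toNat gk'', ← ENat.natCast_toNat fc'',
    ← ENat.natCast_toNat fk''] at e''
  norm_cast at s1 t1 e' e'' ⊢
  omega

lemma good_subsingleton (G : Matrix n n A) (M : Type u) [AddCommGroup M] [Module A M]
    [Subsingleton M] : Good G M := fun _ => by
  simp [coker, kerLen]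

lemma kerLen_eq_coker {V : Type u} [AddCommGroup V] [Module A V] (f : V →ₗ[A] V)
    (hfin : Module.length A V ≠ ⊤) : kerLen f = coker f := by
  have h1 := Module.length_eq_add_of_exact (ker f).subtype f.rangeRestrict
    Subtype.val_injective f.surjective_rangeRestrict (exact_iff.mpr (by rw [ker_rangeRestrict, Submodule.range_subtype]))
  have h2 := Module.length_eq_add_of_exact (range f).subtype (range f).mkQ Subtype.val_injective
    (Submodule.mkQ_surjective _) (LinearMap.exact_subtype_mkQ _)
  have hne : Module.length A (range f) ≠ ⊤ :=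
    ne_top_of_le_ne_top hfin (h1 ▸ le_add_self)
  exact WithTop.add_right_cancel hne ((h1.symm.trans h2).trans (add_comm _ _))

lemma kerLen_of_injective {V : Type u} [AddCommGroup V] [Module A V] {f : V →ₗ[A] V}
    (hf : Function.Injective f) : kerLen f = 0 := by
  rw [kerLen, ker_eq_bot.mpr hf, Module.length_eq_zero_iff]
  infer_instance

lemma good_quotient_prime [IsNoetherianRing A] (G : Matrix n n A) (p : Ideal A) [p.IsPrime] :
    Good G (A ⧸ p) := by
  intro hfin
  let π := Ideal.Quotient.mk p
  have hsurj : Function.Surjective (algebraMap A (A ⧸ p)) := Ideal.Quotient.mk_surjective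
  set Gb := G.map π with hGb
  have hdet : Gb.det = π G.det := (RingHom.map_det π G).symm
  have hact : act G (A ⧸ p) = (Matrix.toLin' Gb).restrictScalars A := by
    refine LinearMap.ext fun v => funext fun i => ?_
    simp [act_apply, Gb, π, Matrix.toLin'_apply, Matrix.mulVec, dotProduct, Algebra.smul_def]
  by_cases hd : π G.det = 0
  · have h0 : lsmul A (A ⧸ p) G.det = 0 := by
      refine LinearMap.ext fun x => ?_
      change G.det • x = 0
      rw [Algebra.smul_def, show algebraMap A (A ⧸ p) G.det = π G.det from rfl, hd, zero_mul]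
    have hB : Module.length A (A ⧸ p) ≠ ⊤ := by
      have : coker (lsmul A (A ⧸ p) G.det) = Module.length A (A ⧸ p) := by
        rw [h0, coker, range_zero]
        exact (Submodule.quotEquivOfEqBot _ rfl).length_eq
      rwa [this] at hfin
    have hV : Module.length A (n → A ⧸ p) ≠ ⊤ := by
      rw [Module.length_pi_of_fintype, Finset.sum_const, nsmul_eq_mul]
      exact WithTop.mul_ne_top (ENat.natCast_ne_top _) hB
    rw [kerLen_eq_coker _ hB, kerLen_eq_coker _ hV]
    refine ⟨hfin, ?_, ?_, rfl⟩ <;>
      exact ne_top_of_le_ne_top hV (Module.length_le_of_surjective _ (Submodule.mkQ_surjective _))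
  · have hcoker : coker (lsmul A (A ⧸ p) G.det) = Ring.ord (A ⧸ p) (π G.det) := by
      rw [coker, Ring.ord, ← Module.length_eq_of_surjective (R := A ⧸ p) hsurj]
      refine ((Submodule.quotEquivOfEq _ ((Ideal.span {π G.det}).restrictScalars A) ?_).trans
        (Submodule.Quotient.restrictScalarsEquiv A _)).length_eq
      ext x
      simp only [mem_range, lsmul_apply, Submodule.restrictScalars_mem, Ideal.mem_span_singleton,
        dvd_iff_exists_eq_mul_left, Algebra.smul_def]
      exact ⟨fun ⟨y, hy⟩ => ⟨y, by rw [← hy, mul_comm]; rfl⟩,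
        fun ⟨y, hy⟩ => ⟨y, by rw [hy, mul_comm]; rfl⟩⟩
    have hfin' : Ring.ord (A ⧸ p) Gb.det ≠ ⊤ := by rwa [hdet, ← hcoker]
    have hcG : coker (act G (A ⧸ p)) = Ring.ord (A ⧸ p) (π G.det) := by
      rw [hact, coker, ← hdet, ← coker_eq_ord_det' Gb (by rwa [hdet]) hfin', coker,
        ← Module.length_eq_of_surjective (R := A ⧸ p) hsurj]
      exact ((Submodule.quotEquivOfEq _ _ rfl).trans
        (Submodule.Quotient.restrictScalarsEquiv A (range (Matrix.toLin' Gb)))).length_eq
    have hk : kerLen (lsmul A (A ⧸ p) G.det) = 0 := kerLen_of_injective fun x y h => by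
      simp only [lsmul_apply, Algebra.smul_def] at h
      exact mul_left_cancel₀ hd h
    have hkG : kerLen (act G (A ⧸ p)) = 0 := by
      refine kerLen_of_injective ?_
      rw [hact]
      exact injective_toLin' Gb (mem_nonZeroDivisors_of_ne_zero (by rwa [hdet]))
    rw [hcoker] at hfin
    rw [hk, hkG, hcG, hcoker]
    exact ⟨ENat.zero_ne_top, hfin, ENat.zero_ne_top, by rw [add_zero, zero_add]⟩

theorem good [IsNoetherianRing A] (G : Matrix n n A) (M : Type u) [AddCommGroup M] [Module A M]
    [Module.Finite A M] : Good G M := by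
  induction ‹Module.Finite A M› using IsNoetherianRing.induction_on_isQuotientEquivQuotientPrime with
  | subsingleton N => exact good_subsingleton G N
  | quotient N p e => exact good_congr G e (good_quotient_prime G p.asIdeal)
  | exact N₁ N₂ N₃ f g hf hg hfg h1 h3 => exact good_exact G f g hf hg hfg h1 h3

end Groth.Agent.Len90
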