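import Groth.Agent.Len90.Euler
import Mathlib.Algebra.Module.LocalizedModule.Exact
import Mathlib.RingTheory.Ideal.AssociatedPrime.Finiteness
import Mathlib.RingTheory.Localization.AtPrime.Basic
import Mathlib.RingTheory.LocalRing.Basic
import Mathlib.RingTheory.SimpleModule.Basic
import Mathlib.RingTheory.OrderOfVanishing.Basic
import Mathlib.Algebra.BigOperators.Finprod

/-! The multiplicity `l(M/aM) - l(ₐM)` over a one-dimensional local ring. -/

universe u

namespace Groth.Agent.Len90

open LinearMap

variable {A : Type u} [CommRing A]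

/-- Length of the localization at a prime. -/
noncomputable def locLen (p : Ideal A) [p.IsPrime] (M : Type u) [AddCommGroup M] [Module A M] : ℕ∞ :=
  Module.length (Localization.AtPrime p) (LocalizedModule p.primeCompl M)

lemma locLen_exact (p : Ideal A) [p.IsPrime] {M M' M'' : Type u} [AddCommGroup M] [Module A M]
    [AddCommGroup M'] [Module A M'] [AddCommGroup M''] [Module A M''] (i : M' →ₗ[A] M)
    (q : M →ₗ[A] M'') (hi : Function.Injective i) (hq : Function.Surjective q)
    (hex : Function.Exact i q) : locLen p M = locLen p M' + locLen p M'' := by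
  let S := p.primeCompl
  exact Module.length_eq_add_of_exact (LocalizedModule.map S i) (LocalizedModule.map S q)
    (IsLocalizedModule.map_injective S (LocalizedModule.mkLinearMap S M')
      (LocalizedModule.mkLinearMap S M) i hi)
    (IsLocalizedModule.map_surjective S (LocalizedModule.mkLinearMap S M)
      (LocalizedModule.mkLinearMap S M'') q hq)
    (IsLocalizedModule.map_exact S (LocalizedModule.mkLinearMap S M')
      (LocalizedModule.mkLinearMap S M) (LocalizedModule.mkLinearMap S M'') i q hex)

lemma locLen_congr (p : Ideal A) [p.IsPrime] {M N : Type u} [AddCommGroup M] [Module A M]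
    [AddCommGroup N] [Module A N] (e : M ≃ₗ[A] N) : locLen p M = locLen p N := by
  have : Subsingleton (LocalizedModule p.primeCompl PUnit.{u + 1}) :=
    ⟨fun x y => by induction x, y using LocalizedModule.induction_on₂ with
      | h a b s t => exact LocalizedModule.mk_eq.mpr ⟨1, Subsingleton.elim _ _⟩⟩
  rw [locLen_exact p (M'' := PUnit.{u + 1}) e.symm.toLinearMap 0 e.symm.injective
    (Function.surjective_to_subsingleton _)
    ((e.symm.toLinearMap.exact_zero_iff_surjective _).mpr e.symm.surjective)]
  simp [locLen]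

lemma locLen_quot_of_not_le (p q : Ideal A) [p.IsPrime] (h : ¬ q ≤ p) : locLen p (A ⧸ q) = 0 := by
  obtain ⟨c, hc, hcp⟩ := SetLike.not_le_iff_exists.mp h
  rw [locLen, Module.length_eq_zero_iff]
  refine subsingleton_of_forall_eq 0 fun x => ?_
  induction x using LocalizedModule.induction_on with
  | h m s =>
    rw [← LocalizedModule.zero_mk s, LocalizedModule.mk_eq]
    refine ⟨⟨c, hcp⟩, ?_⟩
    obtain ⟨a, rfl⟩ := Ideal.Quotient.mk_surjective m
    simp only [smul_zero, Submonoid.smul_def, Algebra.smul_def]
    rw [show algebraMap A (A ⧸ q) c = 0 from Ideal.Quotient.eq_zero_iff_mem.mpr hc, zero_mul]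

lemma locLen_quot_self (p : Ideal A) [p.IsPrime] : locLen p (A ⧸ p) = 1 := by
  rw [locLen, Module.length_eq_one_iff]
  have hmk : ∀ (a : A) (s : p.primeCompl),
      (LocalizedModule.mk (Ideal.Quotient.mk p a) s : LocalizedModule p.primeCompl (A ⧸ p)) = 0 ↔ a ∈ p := by
    intro a s
    rw [← LocalizedModule.zero_mk s, LocalizedModule.mk_eq]
    constructor
    · rintro ⟨u, hu⟩
      simp only [smul_zero, Submonoid.smul_def, Algebra.smul_def] at hu
      rw [← Ideal.Quotient.eq_zero_iff_mem]
      rcases mul_eq_zero.mp hu with h | h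
      · exact absurd (Ideal.Quotient.eq_zero_iff_mem.mp h) u.2
      · rcases mul_eq_zero.mp h with h' | h'
        · exact absurd (Ideal.Quotient.eq_zero_iff_mem.mp h') s.2
        · exact h'
    · intro h
      exact ⟨1, by rw [Ideal.Quotient.eq_zero_iff_mem.mpr h]⟩
  have hne : Nontrivial (LocalizedModule p.primeCompl (A ⧸ p)) :=
    ⟨LocalizedModule.mk (Ideal.Quotient.mk p 1) 1, 0,
      fun h => (Ideal.ne_top_iff_one p).mp ‹p.IsPrime›.ne_top ((hmk 1 1).mp h)⟩
  rw [isSimpleModule_iff_toSpanSingleton_surjective]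
  refine ⟨hne, fun x hx y => ?_⟩
  induction x using LocalizedModule.induction_on with
  | h m s =>
    induction y using LocalizedModule.induction_on with
    | h m' t =>
      obtain ⟨a, rfl⟩ := Ideal.Quotient.mk_surjective m
      obtain ⟨b, rfl⟩ := Ideal.Quotient.mk_surjective m'
      have ha : a ∉ p := fun h => hx ((hmk a s).mpr h)
      refine ⟨Localization.mk (b * s.1) (⟨a, ha⟩ * t), ?_⟩
      rw [LinearMap.toSpanSingleton_apply, LocalizedModule.mk_smul_mk, LocalizedModule.mk_eq]
      refine ⟨1, ?_⟩
      simp only [one_smul, Submonoid.smul_def, Algebra.smul_def, Submonoid.coe_mul, Submonoid.coe_one]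
      simp only [Ideal.Quotient.algebraMap_eq, ← map_mul]
      congr 1; ring

variable [IsNoetherianRing A] [IsLocalRing A]

/-- The right-hand side of the multiplicity formula. -/
noncomputable def multSum (a : A) (M : Type u) [AddCommGroup M] [Module A M] : ℕ∞ :=
  ∑ᶠ (p : PrimeSpectrum A) (_ : p.asIdeal ∈ minimalPrimes A),
    locLen p.asIdeal M * Module.length A (A ⧸ (p.asIdeal ⊔ Ideal.span {a}))

lemma multSum_eq (a : A) (M : Type u) [AddCommGroup M] [Module A M]
    (hfin : {p : PrimeSpectrum A | p.asIdeal ∈ minimalPrimes A}.Finite) :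
    multSum a M = ∑ p ∈ hfin.toFinset,
      locLen p.asIdeal M * Module.length A (A ⧸ (p.asIdeal ⊔ Ideal.span {a})) :=
  finsum_mem_eq_finite_toFinset_sum _ hfin

omit [IsLocalRing A] in
lemma finite_minimal : {p : PrimeSpectrum A | p.asIdeal ∈ minimalPrimes A}.Finite :=
  (minimalPrimes.finite_of_isNoetherianRing A).preimage fun _ _ _ _ e => PrimeSpectrum.ext e

/-- `l(M/aM) = l(ₐM) + Σ_p l(M_p) l(A/(p + aA))`, with all lengths finite. -/
theorem multiplicity_formula (hA : ringKrullDim A = 1) (M : Type u) [AddCommGroup M] [Module A M]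
    [Module.Finite A M] (a : A) (ha : ∀ p ∈ minimalPrimes A, a ∉ p) :
    kerLen (lsmul A M a) ≠ ⊤ ∧ coker (lsmul A M a) ≠ ⊤ ∧
      coker (lsmul A M a) = kerLen (lsmul A M a) + multSum a M := by
  have hprime : ∀ q : Ideal A, q.IsPrime → q = IsLocalRing.maximalIdeal A ∨ q ∈ minimalPrimes A := by
    intro q hq
    by_contra hcon
    push Not at hcon
    have hlt : q < IsLocalRing.maximalIdeal A :=
      lt_of_le_of_ne (IsLocalRing.le_maximalIdeal hq.ne_top) hcon.1
    obtain ⟨p, hp, hpq⟩ := Ideal.exists_minimalPrimes_le (show (⊥ : Ideal A) ≤ q from bot_le)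
    have hlt' : p < q := lt_of_le_of_ne hpq fun e => hcon.2 (e ▸ hp)
    let c : LTSeries (PrimeSpectrum A) :=
      { length := 2
        toFun := ![⟨p, hp.1.1⟩, ⟨q, hq⟩, ⟨IsLocalRing.maximalIdeal A, inferInstance⟩]
        step := fun i => by
          fin_cases i
          · exact hlt'
          · exact hlt }
    have h2 := Order.LTSeries.length_le_krullDim c
    rw [← ringKrullDim, hA] at h2
    exact absurd h2 (by norm_cast)
  have hnm : IsLocalRing.maximalIdeal A ∉ minimalPrimes A := fun h => by
    have : Ring.KrullDimLE 0 A := Ring.krullDimLE_zero_iff.mpr fun I hI => by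
      have := h.2 ⟨hI, bot_le⟩ (IsLocalRing.le_maximalIdeal hI.ne_top)
      rw [le_antisymm (IsLocalRing.le_maximalIdeal hI.ne_top) this]
      exact IsLocalRing.maximalIdeal.isMaximal A
    have := (Order.krullDimLE_iff 0 _).mp this
    rw [← ringKrullDim, hA] at this
    exact absurd this (by norm_cast)
  have hfin := finite_minimal (A := A)
  induction ‹Module.Finite A M› using IsNoetherianRing.induction_on_isQuotientEquivQuotientPrime with
  | subsingleton N =>
    have h0 : multSum a N = 0 := by
      rw [multSum_eq a N hfin]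
      refine Finset.sum_eq_zero fun p _ => ?_
      have : Subsingleton (LocalizedModule p.asIdeal.primeCompl N) :=
        ⟨fun x y => by induction x, y using LocalizedModule.induction_on₂ with
          | h a b s t => exact LocalizedModule.mk_eq.mpr ⟨1, Subsingleton.elim _ _⟩⟩
      rw [locLen, Module.length_eq_zero, zero_mul]
    simp [coker, kerLen, h0]
  | quotient N P e =>
    have h1 : coker (lsmul A N a) = coker (lsmul A (A ⧸ P.asIdeal) a) ∧
        kerLen (lsmul A N a) = kerLen (lsmul A (A ⧸ P.asIdeal) a) := by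
      constructor
      · refine (Submodule.Quotient.equiv _ _ e ?_).length_eq
        ext x
        obtain ⟨y, rfl⟩ := e.surjective x
        simp [Submodule.mem_map_equiv, ← map_smul, e.injective.eq_iff]
        exact ⟨fun ⟨z, hz⟩ => ⟨e z, by rw [← map_smul, hz]⟩,
          fun ⟨z, hz⟩ => ⟨e.symm z, by rw [← map_smul, hz, e.symm_apply_apply]⟩⟩
      · refine (e.ofSubmodules _ _ ?_).length_eq
        ext x
        simp [Submodule.mem_map_equiv, ← map_smul]
    have hs : multSum a N = multSum a (A ⧸ P.asIdeal) := by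
      rw [multSum_eq a N hfin, multSum_eq a _ hfin]
      exact Finset.sum_congr rfl fun p _ => by rw [locLen_congr p.asIdeal e]
    rw [h1.1, h1.2, hs]
    have hcok : coker (lsmul A (A ⧸ P.asIdeal) a) =
        Module.length A (A ⧸ (P.asIdeal ⊔ Ideal.span {a})) := by
      refine ((Submodule.quotEquivOfEq _ _ ?_).trans
        (Submodule.quotientQuotientEquivQuotient P.asIdeal _ le_sup_left)).length_eq
      ext x
      obtain ⟨y, rfl⟩ := Ideal.Quotient.mk_surjective x
      constructor
      · rintro ⟨z, hz⟩
        obtain ⟨z, rfl⟩ := Ideal.Quotient.mk_surjective z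
        exact ⟨a * z, Submodule.mem_sup_right (Ideal.mem_span_singleton.mpr (dvd_mul_right a z)), hz⟩
      · rintro ⟨z, hz, hzy⟩
        obtain ⟨u, hu, v, hv, rfl⟩ := Submodule.mem_sup.mp hz
        obtain ⟨w, rfl⟩ := Ideal.mem_span_singleton.mp hv
        refine ⟨Ideal.Quotient.mk _ w, ?_⟩
        rw [← hzy, LinearMap.lsmul_apply]
        refine Ideal.Quotient.eq.mpr ?_
        have : a • w - (u + a * w) = -u := by simp
        rw [this]
        exact neg_mem hu
    rcases hprime P.asIdeal P.isPrime with hm | hmin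
    · have hsimple : Module.length A (A ⧸ P.asIdeal) = 1 := by
        rw [hm, Module.length_eq_one_iff, isSimpleModule_iff_isCoatom]
        exact Ideal.isMaximal_def.mp (IsLocalRing.maximalIdeal.isMaximal A)
      have hne : Module.length A (A ⧸ P.asIdeal) ≠ ⊤ := by rw [hsimple]; exact ENat.one_ne_top
      have hsum : multSum a (A ⧸ P.asIdeal) = 0 := by
        rw [multSum_eq a _ hfin]
        refine Finset.sum_eq_zero fun p hp => ?_
        replace hp : p.asIdeal ∈ minimalPrimes A := (Set.Finite.mem_toFinset hfin).mp hp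
        rw [locLen_quot_of_not_le p.asIdeal, zero_mul]
        intro hle
        refine hnm ?_
        rw [← (IsLocalRing.maximalIdeal.isMaximal A).eq_of_le p.isPrime.ne_top (hm ▸ hle)] at hp
        exact hp
      have hkc : kerLen (lsmul A (A ⧸ P.asIdeal) a) = coker (lsmul A (A ⧸ P.asIdeal) a) := by
        by_cases hap : a ∈ P.asIdeal
        · have h0 : lsmul A (A ⧸ P.asIdeal) a = 0 := LinearMap.ext fun x => by
            change a • x = 0
            rw [Algebra.smul_def, show algebraMap A (A ⧸ P.asIdeal) a = 0 from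
              Ideal.Quotient.eq_zero_iff_mem.mpr hap, zero_mul]
          rw [h0, kerLen, coker, LinearMap.ker_zero, LinearMap.range_zero,
            Module.length_top, (Submodule.quotEquivOfEqBot _ rfl).length_eq]
        · have hu : IsUnit a := IsLocalRing.notMem_maximalIdeal.mp (hm ▸ hap)
          obtain ⟨u, rfl⟩ := hu
          rw [kerLen, coker, LinearMap.ker_eq_bot.mpr (fun x y h => by
              simpa [smul_smul] using congrArg ((u⁻¹ : Aˣ).1 • ·) h),
            LinearMap.range_eq_top.mpr (fun y => ⟨(u⁻¹ : Aˣ).1 • y, by simp [smul_smul]⟩)]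
          simp
      rw [hkc, hsum, add_zero]
      exact ⟨ne_top_of_le_ne_top hne (Module.length_le_of_surjective _ (Submodule.mkQ_surjective _)),
        ne_top_of_le_ne_top hne (Module.length_le_of_surjective _ (Submodule.mkQ_surjective _)), rfl⟩
    · have hk : kerLen (lsmul A (A ⧸ P.asIdeal) a) = 0 := by
        rw [kerLen, LinearMap.ker_eq_bot.mpr]
        · exact Module.length_eq_zero
        · intro x y h
          simp only [LinearMap.lsmul_apply, Algebra.smul_def] at h
          exact mul_left_cancel₀ (fun h' => ha _ hmin (Ideal.Quotient.eq_zero_iff_mem.mp h')) h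
      have hsum : multSum a (A ⧸ P.asIdeal) = Module.length A (A ⧸ (P.asIdeal ⊔ Ideal.span {a})) := by
        rw [multSum_eq a _ hfin, Finset.sum_eq_single P]
        · rw [locLen_quot_self, one_mul]
        · intro p hp hne
          rw [Set.Finite.mem_toFinset] at hp
          rw [locLen_quot_of_not_le p.asIdeal, zero_mul]
          intro hle
          exact hne (PrimeSpectrum.ext (le_antisymm (hp.2 ⟨P.isPrime, bot_le⟩ hle) hle))
        · exact fun h => absurd ((Set.Finite.mem_toFinset hfin).mpr hmin) h
      have hne : coker (lsmul A (A ⧸ P.asIdeal) a) ≠ ⊤ := by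
        rw [hcok]
        have : IsArtinianRing (A ⧸ (P.asIdeal ⊔ Ideal.span {a})) := by
          rw [isArtinianRing_iff_krullDimLE_zero, Ring.krullDimLE_zero_iff]
          intro Q hQ
          have hQ' := hQ.comap (Ideal.Quotient.mk (P.asIdeal ⊔ Ideal.span {a}))
          have hle : P.asIdeal ⊔ Ideal.span {a} ≤ Q.comap (Ideal.Quotient.mk _) := fun z hz => by
            rw [Ideal.mem_comap, Ideal.Quotient.eq_zero_iff_mem.mpr hz]; exact Q.zero_mem
          rcases hprime _ hQ' with hmax | hQmin
          · rw [← Ideal.map_comap_of_surjective _ Ideal.Quotient.mk_surjective Q, hmax]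
            exact Ideal.IsMaximal.map_of_surjective_of_ker_le Ideal.Quotient.mk_surjective
              (hmax ▸ Ideal.ker_le_comap _)
          · exact absurd (hle (Submodule.mem_sup_right (Ideal.mem_span_singleton_self a))) (ha _ hQmin)
        rw [Module.length_ne_top_iff, isFiniteLength_iff_isNoetherian_isArtinian]
        exact ⟨isNoetherian_quotient _,
          isArtinian_of_surjective_algebraMap
            (Ideal.Quotient.mk_surjective (I := P.asIdeal ⊔ Ideal.span {a}))⟩
      exact ⟨by rw [hk]; exact ENat.zero_ne_top, hne, by rw [hk, hsum, hcok, zero_add]⟩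
  | exact N₁ N₂ N₃ f g hf hg hfg h1 h3 =>
    obtain ⟨k1, c1, e1⟩ := h1
    obtain ⟨k3, c3, e3⟩ := h3
    obtain ⟨s1, -, -, s4, s5, -⟩ := euler f g hf hg (LinearMap.exact_iff.mp hfg).symm (lsmul A N₁ a)
      (lsmul A N₂ a) (lsmul A N₃ a) (LinearMap.ext fun x => by simp) (LinearMap.ext fun x => by simp)
    have k2 := ne_top_of_le_ne_top (WithTop.add_ne_top.mpr ⟨k1, k3⟩) s5
    have c2 := ne_top_of_le_ne_top (WithTop.add_ne_top.mpr ⟨c1, c3⟩) s4
    refine ⟨k2, c2, ?_⟩
    have hadd : multSum a N₂ = multSum a N₁ + multSum a N₃ := by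
      rw [multSum_eq a N₁ hfin, multSum_eq a N₂ hfin, multSum_eq a N₃ hfin, ← Finset.sum_add_distrib]
      exact Finset.sum_congr rfl fun p _ => by rw [locLen_exact p.asIdeal f g hf hg hfg, add_mul]
    have m1 : multSum a N₁ ≠ ⊤ := ne_top_of_le_ne_top c1 (e1 ▸ le_add_self)
    have m3 : multSum a N₃ ≠ ⊤ := ne_top_of_le_ne_top c3 (e3 ▸ le_add_self)
    rw [hadd]
    lift kerLen (lsmul A N₁ a) to ℕ using k1 with x1
    lift kerLen (lsmul A N₂ a) to ℕ using k2 with x2
    lift kerLen (lsmul A N₃ a) to ℕ using k3 with x3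
    lift coker (lsmul A N₁ a) to ℕ using c1 with y1
    lift coker (lsmul A N₂ a) to ℕ using c2 with y2
    lift coker (lsmul A N₃ a) to ℕ using c3 with y3
    lift multSum a N₁ to ℕ using m1 with z1
    lift multSum a N₃ to ℕ using m3 with z3
    norm_cast at s1 e1 e3 ⊢
    omega

end Groth.Agent.Len90
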