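import Groth.Agent.Len90.Lattice

/-! Additivity of `length coker - length ker` along short exact sequences. -/

universe u

namespace Groth.Agent.Len90

open LinearMap

variable {A : Type u} [CommRing A]
variable {M M' M'' : Type u} [AddCommGroup M] [Module A M] [AddCommGroup M'] [Module A M']
  [AddCommGroup M''] [Module A M'']

/-- Length of the kernel of an endomorphism. -/
noncomputable def kerLen (f : M →ₗ[A] M) : ℕ∞ := Module.length A (ker f)

lemma relLen_top (N : Submodule A M) : relLen ⊤ N = Module.length A (M ⧸ N) := by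
  refine (Submodule.Quotient.equiv _ _ Submodule.topEquiv ?_).length_eq
  ext x
  simp [Submodule.submoduleOf]

lemma relLen_bot (N : Submodule A M) : relLen N ⊥ = Module.length A N :=
  (Submodule.quotEquivOfEqBot _ (by simp [Submodule.submoduleOf])).length_eq

lemma relLen_sup (P Q : Submodule A M) : relLen (P ⊔ Q) Q = relLen P (P ⊓ Q) :=
  (LinearMap.quotientInfEquivSupQuotient P Q).length_eq.symm

lemma relLen_map_eq {N : Type u} [AddCommGroup N] [Module A N] (p : M →ₗ[A] N) {P Q : Submodule A M}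
    (hQ : Q ≤ P) : relLen (P.map p) (Q.map p) = relLen P (Q ⊔ (P ⊓ ker p)) := by
  let f : P →ₗ[A] ↥(P.map p) ⧸ (Q.map p).submoduleOf (P.map p) :=
    (Submodule.mkQ _).comp (LinearMap.restrict p (fun x hx => ⟨x, hx, rfl⟩))
  have hs : Function.Surjective f := by
    intro x
    obtain ⟨⟨_, y, hy, rfl⟩, rfl⟩ := Submodule.Quotient.mk_surjective _ x
    exact ⟨⟨y, hy⟩, rfl⟩
  have hk : ker f = (Q ⊔ (P ⊓ ker p)).submoduleOf P := by
    ext ⟨x, hx⟩
    rw [mem_ker]
    refine (Submodule.Quotient.mk_eq_zero _).trans ?_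
    simp only [Submodule.submoduleOf, Submodule.mem_comap, Submodule.coe_subtype]
    constructor
    · rintro ⟨q, hq, hqx⟩
      rw [Submodule.mem_sup]
      refine ⟨q, hq, x - q, ⟨P.sub_mem hx (hQ hq), ?_⟩, by abel⟩
      rw [SetLike.mem_coe, mem_ker, map_sub, hqx, sub_eq_zero]
      rfl
    · intro h
      obtain ⟨q, hq, k, ⟨-, hk⟩, rfl⟩ := Submodule.mem_sup.mp h
      refine ⟨q, hq, ?_⟩
      change p q = p (q + k)
      rw [map_add, show p k = 0 from hk, add_zero]
  exact ((f.quotKerEquivOfSurjective hs).symm.trans (Submodule.quotEquivOfEq _ _ hk)).length_eq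

lemma relLen_top_bot : relLen (⊤ : Submodule A M) ⊥ = Module.length A M :=
  (relLen_bot _).trans Submodule.topEquiv.length_eq

/-- Additivity. -/
theorem euler (i : M' →ₗ[A] M) (p : M →ₗ[A] M'') (hi : Function.Injective i)
    (hp : Function.Surjective p) (hex : range i = ker p) (f' : M' →ₗ[A] M') (f : M →ₗ[A] M)
    (f'' : M'' →ₗ[A] M'') (h1 : f ∘ₗ i = i ∘ₗ f') (h2 : f'' ∘ₗ p = p ∘ₗ f) :
    coker f + kerLen f' + kerLen f'' = coker f' + coker f'' + kerLen f ∧
      coker f'' ≤ coker f ∧ kerLen f' ≤ kerLen f ∧ coker f ≤ coker f' + coker f'' ∧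
      kerLen f ≤ kerLen f' + kerLen f'' ∧ coker f' ≤ coker f + kerLen f'' := by
  set K := range i
  set R := range f
  set C := Submodule.comap f K
  have hfK : K.map f ≤ K := by
    rintro _ ⟨_, ⟨x, rfl⟩, rfl⟩
    exact ⟨f' x, (LinearMap.congr_fun h1 x).symm⟩
  have e_coker : coker f = relLen (R ⊔ K) R + relLen ⊤ (R ⊔ K) := by
    rw [coker, ← relLen_top]
    exact relLen_tower le_sup_left le_top
  have hRK : relLen (R ⊔ K) R = relLen K (R ⊓ K) := by
    rw [sup_comm, relLen_sup, inf_comm]
  have e_coker' : coker f' = relLen (R ⊓ K) (K.map f) + relLen K (R ⊓ K) := by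
    rw [← relLen_tower (le_inf (by rintro _ ⟨x, -, rfl⟩; exact ⟨x, rfl⟩) hfK) inf_le_right, coker,
      ← relLen_top]
    have hK : K = (⊤ : Submodule A M').map i := (Submodule.map_top i).symm
    have hfK' : K.map f = (range f').map i := by
      rw [← range_comp, h1, range_comp]
    rw [hfK', hK, relLen_map_eq i le_top, ker_eq_bot.mpr hi, inf_bot_eq, sup_bot_eq]
  have e_coker'' : coker f'' = relLen ⊤ (R ⊔ K) := by
    have hr : range f'' = R.map p := by
      rw [← range_comp, ← h2, range_comp, range_eq_top.mpr hp, Submodule.map_top]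
    have ht : (⊤ : Submodule A M'') = (⊤ : Submodule A M).map p := by
      rw [Submodule.map_top, range_eq_top.mpr hp]
    rw [coker, ← relLen_top, hr, ht, relLen_map_eq p le_top, top_inf_eq, ← hex]
  have e_ker : kerLen f = relLen (ker f ⊓ K) ⊥ + relLen (ker f) (ker f ⊓ K) := by
    rw [kerLen, ← relLen_bot]
    exact relLen_tower bot_le inf_le_left
  have e_ker' : kerLen f' = relLen (ker f ⊓ K) ⊥ := by
    have : ker f ⊓ K = (ker f').map i := by
      ext x
      constructor
      · rintro ⟨hx, y, rfl⟩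
        refine ⟨y, hi ?_, rfl⟩
        rw [map_zero, ← show f (i y) = i (f' y) from LinearMap.congr_fun h1 y]
        exact hx
      · rintro ⟨y, hy, rfl⟩
        refine ⟨?_, y, rfl⟩
        rw [SetLike.mem_coe, mem_ker, show f (i y) = i (f' y) from LinearMap.congr_fun h1 y,
          mem_ker.mp hy, map_zero]
    rw [this, ← Submodule.map_bot i, relLen_map_eq i bot_le, ker_eq_bot.mpr hi, inf_bot_eq,
      sup_bot_eq, kerLen, relLen_bot]
  have hKC : ker f ⊔ K ≤ C := by
    refine sup_le (fun x hx => ?_) (fun x hx => hfK ⟨x, hx, rfl⟩)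
    rw [Submodule.mem_comap, mem_ker.mp hx]
    exact K.zero_mem
  have e_ker'' : kerLen f'' = relLen (ker f) (ker f ⊓ K) + relLen (R ⊓ K) (K.map f) := by
    have hC : ker f'' = C.map p := by
      ext z
      obtain ⟨x, rfl⟩ := hp z
      rw [mem_ker, show f'' (p x) = p (f x) from LinearMap.congr_fun h2 x, ← mem_ker, ← hex]
      constructor
      · intro hx; exact ⟨x, hx, rfl⟩
      · rintro ⟨y, hy, hyx⟩
        have : x - y ∈ K := by rw [hex, mem_ker, map_sub, hyx, sub_self]
        have h3 := K.add_mem hy (hfK ⟨x - y, this, rfl⟩)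
        rwa [map_sub, add_sub_cancel] at h3
    have hKC' : K ≤ C := le_sup_right.trans hKC
    have e1 : kerLen f'' = relLen C K := by
      rw [kerLen, ← relLen_bot, hC, ← Submodule.map_bot p, relLen_map_eq p bot_le, bot_sup_eq,
        inf_eq_right.mpr (hex ▸ hKC'), ← hex]
    have e2 : relLen (R ⊓ K) (K.map f) = relLen C (ker f ⊔ K) := by
      have hmap : R ⊓ K = C.map f := by
        rw [Submodule.map_comap_eq]
      rw [hmap, relLen_map_eq f hKC', inf_eq_right.mpr (le_sup_left.trans hKC), sup_comm]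
    rw [e1, relLen_tower le_sup_right hKC, relLen_sup, e2]
  rw [e_coker, hRK, e_coker', e_coker'', e_ker, e_ker', e_ker'']
  refine ⟨by ring, le_add_self, le_self_add, ?_, ?_, ?_⟩
  · gcongr; exact le_add_self
  · gcongr; exact le_self_add
  · calc _ ≤ (relLen K (R ⊓ K) + relLen ⊤ (R ⊔ K)) + (relLen (ker f) (ker f ⊓ K) +
        relLen (R ⊓ K) (Submodule.map f K)) := by
          rw [add_comm]; exact add_le_add le_self_add le_add_self

end Groth.Agent.Len90
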