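import Groth.Agent.Len90.Domain
import Groth.Agent.Len90.OrdFrac
import Mathlib.Algebra.Module.Lattice
import Mathlib.LinearAlgebra.Matrix.Basis
import Mathlib.LinearAlgebra.FreeModule.Finite.Basic

/-! Distance between lattices over a one-dimensional domain. -/

universe u

namespace Groth.Agent.Len90

variable {A : Type u} [CommRing A] [IsDomain A]
variable {K : Type u} [Field K] [Algebra A K] [IsFractionRing A K]
variable {V : Type u} [AddCommGroup V] [Module K V] [Module A V] [IsScalarTower A K V]

/-- The length of `M / (M ∩ N)`. -/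
noncomputable def relLen (M N : Submodule A V) : ℕ∞ := Module.length A (↥M ⧸ N.submoduleOf M)

/-- Some multiple of a lattice lies in another lattice. -/
lemma exists_smul_mem (M N : Submodule A V) [Submodule.IsLattice K M] [Submodule.IsLattice K N] :
    ∃ a : A, a ≠ 0 ∧ ∀ m ∈ M, a • m ∈ N := by
  have key : ∀ v : V, ∃ a : A, a ≠ 0 ∧ a • v ∈ N := by
    intro v
    have hv : v ∈ Submodule.span K (N : Set V) := by
      rw [Submodule.IsLattice.span_eq_top]; trivial
    induction hv using Submodule.span_induction with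
    | mem x hx => exact ⟨1, one_ne_zero, by simpa using hx⟩
    | zero => exact ⟨1, one_ne_zero, by simp⟩
    | add x y _ _ hx hy =>
      obtain ⟨a, ha, hax⟩ := hx
      obtain ⟨b, hb, hby⟩ := hy
      refine ⟨a * b, mul_ne_zero ha hb, ?_⟩
      rw [smul_add]
      exact N.add_mem (by rw [mul_comm, mul_smul]; exact N.smul_mem b hax)
        (by rw [mul_smul]; exact N.smul_mem a hby)
    | smul c x _ hx =>
      obtain ⟨a, ha, hax⟩ := hx
      obtain ⟨⟨p, q⟩, hq⟩ := IsLocalization.surj (nonZeroDivisors A) c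
      refine ⟨q.1 * a, mul_ne_zero (nonZeroDivisors.coe_ne_zero q) ha, ?_⟩
      have : (q.1 * a) • c • x = p • a • x := by
        rw [← algebraMap_smul K (q.1 * a) (c • x), ← algebraMap_smul K p, ← algebraMap_smul K a,
          smul_smul, smul_smul, map_mul, ← hq]
        congr 1; ring
      rw [this]
      exact N.smul_mem p hax
  obtain ⟨s, hs⟩ := (Submodule.IsLattice.fg (A := K) (M := M) : M.FG)
  classical
  choose a ha ham using key
  refine ⟨∏ x ∈ s, a x, Finset.prod_ne_zero_iff.mpr fun x _ => ha x, fun m hm => ?_⟩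
  have hle : M ≤ Submodule.comap (LinearMap.lsmul A V (∏ x ∈ s, a x)) N := by
    rw [← hs, Submodule.span_le]
    intro x hx
    simp only [SetLike.mem_coe, Submodule.mem_comap, LinearMap.lsmul_apply]
    rw [← Finset.prod_erase_mul s a hx, mul_smul]
    exact N.smul_mem _ (ham x)
  exact hle hm

omit [IsDomain A] [Module K V] [IsScalarTower A K V] in
lemma relLen_self_inf (M N : Submodule A V) : relLen M (M ⊓ N) = relLen M N := by
  refine (Submodule.quotEquivOfEq _ _ ?_).length_eq
  ext x; simp [Submodule.submoduleOf]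

omit [IsDomain A] [Module K V] [IsScalarTower A K V] in
lemma relLen_tower {N P M : Submodule A V} (hNP : N ≤ P) (hPM : P ≤ M) :
    relLen M N = relLen P N + relLen M P := by
  refine Module.length_eq_add_of_exact
    (Submodule.mapQ (N.submoduleOf P) (N.submoduleOf M) (Submodule.inclusion hPM) (fun x hx => hx))
    (Submodule.factor (show N.submoduleOf M ≤ P.submoduleOf M from fun x hx => hNP hx))
    ?_ (Submodule.factor_surjective _) ?_
  · rw [← LinearMap.ker_eq_bot, eq_bot_iff]
    intro x hx
    obtain ⟨y, rfl⟩ := Submodule.Quotient.mk_surjective _ x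
    rw [LinearMap.mem_ker] at hx
    replace hx := (Submodule.Quotient.mk_eq_zero (x := Submodule.inclusion hPM y) _).mp hx
    rw [Submodule.mem_bot, Submodule.Quotient.mk_eq_zero]
    exact hx
  · intro x
    obtain ⟨y, rfl⟩ := Submodule.Quotient.mk_surjective _ x
    rw [show Submodule.factor (show N.submoduleOf M ≤ P.submoduleOf M from fun x hx => hNP hx)
      (Submodule.Quotient.mk y) = Submodule.Quotient.mk y from rfl, Submodule.Quotient.mk_eq_zero]
    constructor
    · intro hy
      exact ⟨Submodule.Quotient.mk ⟨y.1, hy⟩, rfl⟩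
    · rintro ⟨z, hz⟩
      obtain ⟨z, rfl⟩ := Submodule.Quotient.mk_surjective _ z
      replace hz := (Submodule.Quotient.eq (x := Submodule.inclusion hPM z) (y := y) _).mp hz
      have h1 : (z.1 : V) - y.1 ∈ N := hz
      have : (y.1 : V) ∈ P := by
        have := P.sub_mem z.2 (hNP h1)
        simpa using this
      exact this

omit [IsDomain A] [Module K V] [IsScalarTower A K V] in
lemma relLen_map {φ : V →ₗ[A] V} (hφ : Function.Injective φ) (M N : Submodule A V) :
    relLen (M.map φ) (N.map φ) = relLen M N := by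
  refine ((Submodule.equivMapOfInjective φ hφ M).symm.toLinearMap |> fun _ =>
    (Submodule.Quotient.equiv (N.submoduleOf M) ((N.map φ).submoduleOf (M.map φ))
      (Submodule.equivMapOfInjective φ hφ M) ?_).symm).length_eq
  ext ⟨x, hx⟩
  obtain ⟨m, hm, rfl⟩ := hx
  simp only [Submodule.mem_map, Submodule.submoduleOf, Submodule.mem_comap, Submodule.coe_subtype]
  constructor
  · rintro ⟨⟨n, hn'⟩, hn, e⟩
    exact ⟨n, hn, congrArg Subtype.val e⟩
  · rintro ⟨n, hn, e⟩
    obtain rfl := hφ e
    exact ⟨⟨n, hm⟩, hn, rfl⟩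

variable [IsNoetherianRing A] [Ring.KrullDimLE 1 A]

omit [Module K V] [IsScalarTower A K V] in
lemma relLen_ne_top (M N : Submodule A V) (hM : M.FG) {a : A} (ha : a ≠ 0)
    (h : ∀ m ∈ M, a • m ∈ N) : relLen M N ≠ ⊤ := by
  obtain ⟨n, v, hv⟩ := Submodule.fg_iff_exists_fin_generating_family.mp hM
  let f : (Fin n → A) →ₗ[A] ↥M ⧸ N.submoduleOf M :=
    Fintype.linearCombination A fun i =>
      Submodule.Quotient.mk (⟨v i, hv.le (Submodule.subset_span ⟨i, rfl⟩)⟩ : M)
  have hle : LinearMap.range (LinearMap.lsmul A (Fin n → A) a) ≤ LinearMap.ker f := by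
    rintro _ ⟨w, rfl⟩
    rw [LinearMap.mem_ker, LinearMap.lsmul_apply, map_smul]
    obtain ⟨m, hm⟩ := Submodule.Quotient.mk_surjective _ (f w)
    rw [← hm, ← Submodule.Quotient.mk_smul, Submodule.Quotient.mk_eq_zero]
    exact h m.1 m.2
  have hsurj : Function.Surjective f := by
    intro x
    obtain ⟨⟨m, hm⟩, rfl⟩ := Submodule.Quotient.mk_surjective _ x
    obtain ⟨c, hc⟩ := (Submodule.mem_span_range_iff_exists_fun A).mp (hv.ge hm)
    refine ⟨c, ?_⟩
    have : (⟨m, hm⟩ : M) = ∑ i, c i • (⟨v i, hv.le (Submodule.subset_span ⟨i, rfl⟩)⟩ : M) :=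
      Subtype.ext (by simp [hc])
    rw [this, Fintype.linearCombination_apply, ← Submodule.mkQ_apply, map_sum]
    simp only [map_smul, Submodule.mkQ_apply]
  have hsurj' : Function.Surjective (Submodule.liftQ _ f hle) := by
    intro x
    obtain ⟨w, rfl⟩ := hsurj x
    exact ⟨Submodule.Quotient.mk w, rfl⟩
  refine ne_top_of_le_ne_top ?_ (Module.length_le_of_surjective _ hsurj')
  have : LinearMap.lsmul A (Fin n → A) a = Matrix.toLin' (Matrix.diagonal fun _ => a) := by
    ext w i; simp [Matrix.mulVec_diagonal, Pi.single_apply]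
  rw [this]
  change coker _ ≠ ⊤
  rw [coker_diagonal, Finset.sum_const, nsmul_eq_mul]
  exact WithTop.mul_ne_top (ENat.natCast_ne_top _) (ord_ne_top ha)

include K in
lemma lattice_relLen_ne_top (M N : Submodule A V) [Submodule.IsLattice K M] [Submodule.IsLattice K N] :
    relLen M N ≠ ⊤ := by
  obtain ⟨a, ha, h⟩ := exists_smul_mem (K := K) M N
  exact relLen_ne_top M N (Submodule.IsLattice.fg (A := K)) ha h

include K in
omit [Ring.KrullDimLE 1 A] in
lemma isLattice_inf [FiniteDimensional K V] (M N : Submodule A V) [Submodule.IsLattice K M]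
    [Submodule.IsLattice K N] : Submodule.IsLattice K (M ⊓ N) where
  fg := by
    have : Module.Finite A M := Submodule.IsLattice.finite K M
    have hle : (M ⊓ N) ≤ M := inf_le_left
    have := (IsNoetherian.noetherian ((M ⊓ N).submoduleOf M)).map M.subtype
    rwa [Submodule.submoduleOf, Submodule.map_comap_subtype, inf_eq_right.mpr hle] at this
  span_eq_top := by
    obtain ⟨a, ha, h⟩ := exists_smul_mem (K := K) M N
    rw [eq_top_iff, ← Submodule.IsLattice.span_eq_top (A := K) (M := M), Submodule.span_le]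
    intro m hm
    have hz : algebraMap A K a ≠ 0 :=
      fun e => ha (IsFractionRing.injective A K (e.trans (map_zero _).symm))
    have : m = (algebraMap A K a)⁻¹ • (a • m) := by
      rw [← algebraMap_smul K a m, inv_smul_smul₀ hz]
    rw [this]
    exact Submodule.smul_mem _ _ (Submodule.subset_span ⟨M.smul_mem a hm, h m hm⟩)

/-- The distance of two lattices. -/
noncomputable def dist (M M' : Submodule A V) : ℤ :=
  ((relLen M (M ⊓ M')).toNat : ℤ) - ((relLen M' (M ⊓ M')).toNat : ℤ)

include K in
lemma dist_eq [FiniteDimensional K V] (M M' N : Submodule A V) [Submodule.IsLattice K M]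
    [Submodule.IsLattice K M'] [Submodule.IsLattice K N] (h : N ≤ M) (h' : N ≤ M') :
    dist M M' = ((relLen M N).toNat : ℤ) - ((relLen M' N).toNat : ℤ) := by
  have := isLattice_inf (K := K) M M'
  have e1 := relLen_tower (le_inf h h') (inf_le_left : M ⊓ M' ≤ M)
  have e2 := relLen_tower (le_inf h h') (inf_le_right : M ⊓ M' ≤ M')
  rw [e1, e2, ENat.toNat_add (lattice_relLen_ne_top (K := K) _ _) (lattice_relLen_ne_top (K := K) _ _),
    ENat.toNat_add (lattice_relLen_ne_top (K := K) _ _) (lattice_relLen_ne_top (K := K) _ _), dist]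
  push_cast
  ring

include K in
lemma dist_add [FiniteDimensional K V] (M₁ M₂ M₃ : Submodule A V) [Submodule.IsLattice K M₁]
    [Submodule.IsLattice K M₂] [Submodule.IsLattice K M₃] :
    dist M₁ M₃ = dist M₁ M₂ + dist M₂ M₃ := by
  have := isLattice_inf (K := K) M₁ M₂
  have := isLattice_inf (K := K) (M₁ ⊓ M₂) M₃
  rw [dist_eq (K := K) M₁ M₃ (M₁ ⊓ M₂ ⊓ M₃) (inf_le_left.trans inf_le_left) inf_le_right,
    dist_eq (K := K) M₁ M₂ (M₁ ⊓ M₂ ⊓ M₃) (inf_le_left.trans inf_le_left) (inf_le_left.trans inf_le_right),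
    dist_eq (K := K) M₂ M₃ (M₁ ⊓ M₂ ⊓ M₃) (inf_le_left.trans inf_le_right) inf_le_right]
  ring

omit [IsDomain A] [IsNoetherianRing A] [Ring.KrullDimLE 1 A] in
lemma dist_map {φ : V →ₗ[A] V} (hφ : Function.Injective φ) (M N : Submodule A V) :
    dist (M.map φ) (N.map φ) = dist M N := by
  rw [dist, dist, ← Submodule.map_inf φ hφ, relLen_map hφ, relLen_map hφ]

omit [Ring.KrullDimLE 1 A] [IsNoetherianRing A] in
lemma isLattice_map (M : Submodule A V) [Submodule.IsLattice K M] (φ : V ≃ₗ[K] V) :
    Submodule.IsLattice K (M.map (φ.toLinearMap.restrictScalars A)) where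
  fg := (Submodule.IsLattice.fg (A := K)).map _
  span_eq_top := by
    have : ((M.map (φ.toLinearMap.restrictScalars A) : Submodule A V) : Set V) = φ '' M := rfl
    rw [this, ← φ.coe_toLinearMap, ← Submodule.map_span, Submodule.IsLattice.span_eq_top,
      Submodule.map_top, LinearMap.range_eq_top]
    exact φ.surjective

end Groth.Agent.Len90
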